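import Cfsg.Agent.Omega.FOne.Lift.FFour
import Cfsg.Agent.Omega.EH3.Kf.RowOf
import Cfsg.Agent.Omega.ML.Ex.Def

/-!
# `F₄(2)` with the middle nodes fixing the vector: the row (OMEGA, (6''), #23144; helper115)

* `Data.map`, `Sys.map` : transport of the Chevalley data under an isomorphism;
* `exists_sys` : `K ≃* chevF4.group F` normal in `X`, `T` Sylow in `X`: Chevalley data in `K` with `U = T ∩ K`;
* **`row`** : `InX X M K T A`, `WPart K T p`, `|F| = 2`: no `m ∈ C_M(T)` is fixed exactly by the nodes `1`, `2`.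
-/

set_option autoImplicit false
set_option linter.unusedSectionVars false

namespace Cfsg.Agent.Omega.FOne.Lift.FFour

open CoxeterSystem Cfsg.Agent.ChevalleyStructure.CoxeterGeom Cfsg.Agent.Tits.Roots Cfsg.Agent.Tits.Core
  Cfsg.Agent.Tits.RootComb Cfsg.Agent.Nodes.Comb Cfsg.Agent.Nodes.Reps Cfsg.Agent.Nodes.BNOf
  Cfsg.Agent.Nodes.Coroot Cfsg.Agent.Nodes.Bruhat
open Cfsg.Lie Cfsg.Agent.ChevalleyStructure Cfsg.Agent.ChevalleyStructure.RootVec
  Cfsg.Agent.ChevalleyStructure.CoxeterGeomTypes Cfsg.Agent.Nodes.RGDChev Cfsg.Agent.Nodes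
  Cfsg.Agent.Nodes.KindChev Cfsg.Agent.KFacts.ChevTwo Cfsg.Agent.Omega.ML.Ex
open Cfsg.Agent.Omega.FOne.Lift.FPos
open scoped commutatorElement

section map

variable {I Wy Y Y' F : Type*} [Fintype I] [DecidableEq I] [Group Wy] [Group Y] [Group Y'] [Field F]
  {Mx : CoxeterMatrix I} {cs : CoxeterSystem Mx Wy} {A : I → I → ℤ} {h : IsCartan Mx A} {e : (I → ℤ) → F → Y}
  (f : Y ≃* Y')

theorem map_nc (x : I → ℤ) (c : F) : nc (fun x t => f (e x t)) x c = f (nc e x c) := by
  rw [nc_def, nc_def, map_mul, map_mul]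

theorem map_nel (x : I → ℤ) : nel (fun x t => f (e x t)) x = f (nel e x) := map_nc f x 1

theorem map_hel (x : I → ℤ) (c : F) : hel (fun x t => f (e x t)) x c = f (hel e x c) := by
  rw [hel_def, hel_def, map_nc, map_nel, map_mul]

/-- Transport of the Chevalley data. -/
theorem data_map (D : Data cs h e) : Data cs h (fun x t => f (e x t)) where
  two := D.two
  add x hx t u := by rw [D.add x hx, map_mul]
  inj x hx t ht := D.inj x hx t (f.injective (by rw [ht, map_one]))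
  refl i x hx t := by rw [map_nel, ← map_inv, ← map_mul, ← map_mul, D.refl i x hx]
  tor i x hx c hc t := by rw [map_hel, ← map_inv, ← map_mul, ← map_mul, D.tor i x hx c hc]
  lace := D.lace
  comm0 x y hx hy h1 h2 h3 t u := by rw [← map_commutatorElement, D.comm0 x y hx hy h1 h2 h3, map_one]
  comm1 x y hx hy h1 h2 t u := by rw [← map_commutatorElement, D.comm1 x y hx hy h1 h2]
  comm2 x y hx hy h1 h2 t u := by rw [← map_commutatorElement, D.comm2 x y hx hy h1 h2, map_mul]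

variable {p : ℕ} {T : Subgroup Y} {n : I → Y} {X : (I → ℤ) → Subgroup Y} {R : RGD cs h p T n X}

/-- Transport of the system. -/
theorem sys_map (S : Sys R e) :
    Sys (RGDLib.rgd_map_of_injective R f.toMonoidHom f.injective) (fun x t => f (e x t)) where
  data := data_map f S.data
  mem_X x hx g := by
    rw [Subgroup.mem_map]
    constructor
    · rintro ⟨y, hy, rfl⟩
      obtain ⟨t, rfl⟩ := (S.mem_X x hx y).1 hy
      exact ⟨t, rfl⟩
    · rintro ⟨t, rfl⟩
      exact ⟨e x t, (S.mem_X x hx _).2 ⟨t, rfl⟩, rfl⟩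
  n_eq i := by
    rw [map_nel, ← S.n_eq]
    rfl
  chi := by
    rintro _ ⟨t, ht, rfl⟩
    obtain ⟨χ, hχ⟩ := S.chi t ht
    refine ⟨χ, fun x hx u => ?_⟩
    rw [← hχ x hx u, map_mul, map_mul, map_inv]
    rfl

theorem sup_map (s : Set (I → ℤ)) : RGD.Sup (fun x => (X x).map f.toMonoidHom) s = (RGD.Sup X s).map f.toMonoidHom := by
  unfold RGD.Sup
  rw [Subgroup.map_iSup]

theorem g1_map (hG : RGDLib.G1 cs h X = ⊤) : RGDLib.G1 cs h (fun x => (X x).map f.toMonoidHom) = ⊤ := by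
  unfold RGDLib.G1 at hG ⊢
  rw [sup_map, hG, Subgroup.map_top_of_surjective _ f.surjective]

end map

/-- the Weyl group -/
abbrev csF : CoxeterSystem CoxeterMatrix.F₄ CoxeterMatrix.F₄.Group := CoxeterMatrix.F₄.toCoxeterSystem

instance finite_F4 : Finite CoxeterMatrix.F₄.Group := finite_W Nodes.KindF.isType CoxeterMatrix.F₄.toCoxeterSystem

/-- the Cartan matrix -/
theorem hcF : IsCartan CoxeterMatrix.F₄ (cartanOf chevF4 4) := Nodes.KindF.isType.isCartan

/-- **Chevalley data with `U = T ∩ K`.** -/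
theorem exists_sys {X : Type*} [Group X] [Finite X] {K T : Subgroup X} (hK : K.Normal) (hT : IsPGroup 2 T)
    (hTi : ¬ 2 ∣ T.index) {F : Type*} [Field F] [Finite F] [CharP F 2] (f : K ≃* chevF4.group F) :
    ∃ (e : (Fin 4 → ℤ) → F → K) (Tt : Subgroup K) (n : Fin 4 → K) (Xr : (Fin 4 → ℤ) → Subgroup K)
      (R : RGD csF hcF 2 Tt n Xr), Sys R e ∧ RGDLib.G1 csF hcF Xr = ⊤ ∧
        RGD.Sup Xr (RGD.Pos csF hcF) = T.subgroupOf K := by
  have : Fact (Nat.Prime 2) := ⟨Nat.prime_two⟩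
  have S0 := KFacts.ChevTwoInst.sys (K := F) Nodes.KindF.isType KFacts.ChevTwoInst.twoOK_F4 csF
  have G0 := RGDChev.G1_eq_top (K := F) Nodes.KindF.isType csF
  have S1 := sys_map f.symm S0
  have G1 := g1_map f.symm G0
  have R1 := RGDLib.rgd_map_of_injective (rgd (K := F) Nodes.KindF.isType csF 2) f.symm.toMonoidHom f.symm.injective
  obtain ⟨g, hg⟩ := EH3.Kf.RowOf.exists_syl R1 (by
    rw [eq_top_iff, ← G1]
    exact RGD.Sup_le fun x hx => X_le_GG
      (X := fun x => ((XV chevF4 4 F x).subgroupOf (chevF4.group F)).map f.symm.toMonoidHom) hx) (hT.toSylow hTi)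
  have S2 := sys_map (MulAut.conj g) S1
  refine ⟨_, _, _, _, _, S2, g1_map (MulAut.conj g) G1, ?_⟩
  rw [sup_map]
  ext l
  rw [Subgroup.mem_subgroupOf]
  exact hg l

section row

variable {X : Type*} [Group X] [Finite X] {M : Type*} [Group M] [Finite M] [MulDistribMulAction X M]
  {W : Type*} [CommGroup W] [Finite W] [MulDistribMulAction X W] {K T A : Subgroup X} {p : W →* M}
  {Wy : Type*} [Group Wy] [Finite Wy] {cs : CoxeterSystem CoxeterMatrix.F₄ Wy}
  {h : IsCartan CoxeterMatrix.F₄ (cartanOf chevF4 4)} {F : Type*} [Field F] {e : (Fin 4 → ℤ) → F → K}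
  {Tt : Subgroup K} {n : Fin 4 → K} {Xr : (Fin 4 → ℤ) → Subgroup K} {R : RGD cs h 2 Tt n Xr}

theorem center_eq_bot (hx : InX X M K T A) : Subgroup.center K = ⊥ := by
  rw [eq_bot_iff]
  intro z hz
  have h1 : (z : X) ∈ Subgroup.centralizer (K : Set X) := by
    rw [Subgroup.mem_centralizer_iff]
    intro k hk
    exact congrArg Subtype.val (Subgroup.mem_center_iff.1 hz ⟨k, hk⟩)
  rw [hx.cen, Subgroup.mem_bot] at h1
  exact Subgroup.mem_bot.2 (Subtype.ext h1)

/-- **`F₄(2)`: the nodes fixing `m` are not `1`, `2`.** -/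
theorem row (hx : InX X M K T A) (hW : WPart K T p) (S : Sys R e) (hF : ∀ t : F, t = 0 ∨ t = 1)
    (hG : RGDLib.G1 cs h Xr = ⊤) (hU : RGD.Sup Xr (RGD.Pos cs h) = T.subgroupOf K) {m : M}
    (hm : ∀ t ∈ T, t • m = m)
    (hJ : ∀ i, Xr (-sr i) ≤ (MulAction.stabilizer X m).subgroupOf K ↔ i = 1 ∨ i = 2) : False := by
  have D := S.data
  have hodd : ¬ 2 ∣ (T ⊓ K).relIndex K := by
    have : Fact (Nat.Prime 2) := ⟨Nat.prime_two⟩
    have hK := hx.norm
    have h1 := Lib.SylowNormalInf.not_dvd_relIndex (hx.two.toSylow hx.syl) K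
    rwa [Subgroup.inf_relIndex_right]
  have hneg : ∀ i : Fin 4, i = 1 ∨ i = 2 → ((e (-sr i) 1 : K) : X) • m = m := fun i hi =>
    (hJ i).2 hi ((S.mem_X _ (isRoot_sr cs h i).neg _).2 ⟨1, rfl⟩)
  refine mid_false hx.norm hx.sq hx.irr hW hx.two hodd S hF hG (center_eq_bot hx) hU (m := m)
    (fun t ht => hm t ht.1) (hneg 1 (Or.inl rfl)) (hneg 2 (Or.inr rfl)) ?_
  intro h0
  have h1 : Xr (-sr 0) ≤ (MulAction.stabilizer X m).subgroupOf K := by
    intro y hy
    obtain ⟨t, rfl⟩ := (S.mem_X _ (isRoot_sr cs h 0).neg y).1 hy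
    rcases hF t with rfl | rfl
    · rw [D.zero (isRoot_sr cs h 0).neg]
      exact one_mem _
    · exact h0
  rcases (hJ 0).1 h1 with h2 | h2
  · exact absurd h2 (by decide)
  · exact absurd h2 (by decide)

end row

end Cfsg.Agent.Omega.FOne.Lift.FFour
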