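import Cfsg.Agent.Omega.ML.Ex.WPart

/-!
# Lifting facts for the W-part (OMEGA, (6''), #21921; helper115)

`p : W → M` as in `WPart K T p` (`K` trivial on `ker p`).  `FL p l` is the image in `M` of `C_W(l)`.

* `mem_FL` : for `l ∈ K` : `p w ∈ FL p l ↔ l • w = w`;
* **`inv_mem`** (INV) : `t² = 1` : `[M, t] ≤ FL p t`;
* **`opp_mem`** (OPP) : `l m = m`, `l a = a l` : `[m, a] ∈ FL p l`; (KAP) is the same: `[C_M(l), C_X(l)] ≤ FL p l`;
* **`norm_fix`** (NORM) : the norm over `T₀` of a vector is fixed by `T₀`;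
* `FLs p L` : the `m` with a lift fixed by `L`; for `L ≤ K` : `p w ∈ FLs p L ↔ ∀ l ∈ L, l • w = w`; `FLs_sup`;
* `FLs.comm` : if `L ≤ K` fixes `m` then `m ∈ FLs p ⁅L, L⁆`.
-/

set_option autoImplicit false
set_option linter.unusedSectionVars false

namespace Cfsg.Agent.Omega.FOne.Lift

open Subgroup Cfsg.Agent.Omega.ML.Ex

variable {X : Type*} [Group X] {M : Type*} [Group M] [MulDistribMulAction X M] {W : Type*} [CommGroup W]
  [MulDistribMulAction X W] {K T : Subgroup X} {p : W →* M}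

/-- the fixed points of `L` on `W` -/
def cW (W : Type*) [CommGroup W] [MulDistribMulAction X W] (L : Subgroup X) : Subgroup W where
  carrier := {w | ∀ l ∈ L, l • w = w}
  one_mem' := fun l _ => smul_one l
  mul_mem' := fun {a b} ha hb l hl => by rw [smul_mul', ha l hl, hb l hl]
  inv_mem' := fun {a} ha l hl => by rw [smul_inv', ha l hl]

theorem mem_cW {L : Subgroup X} {w : W} : w ∈ cW W L ↔ ∀ l ∈ L, l • w = w := Iff.rfl

/-- the `m ∈ M` with a lift fixed by `L` -/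
def FLs (p : W →* M) (L : Subgroup X) : Subgroup M := (cW W L).map p

/-- the `m ∈ M` with a lift fixed by `l` -/
def FL (p : W →* M) (l : X) : Subgroup M := FLs p (zpowers l)

theorem mem_cW_zpowers {l : X} {w : W} : w ∈ cW W (zpowers l) ↔ l • w = w := by
  constructor
  · intro h
    exact h l (mem_zpowers l)
  · intro h x hx
    have h1 : zpowers l ≤ MulAction.stabilizer X w := by
      rw [zpowers_le]; exact h
    exact h1 hx

theorem mem_FLs_of {L : Subgroup X} {w : W} (hw : ∀ l ∈ L, l • w = w) : p w ∈ FLs p L := ⟨w, hw, rfl⟩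

theorem mem_FL_of {l : X} {w : W} (hw : l • w = w) : p w ∈ FL p l := ⟨w, mem_cW_zpowers.2 hw, rfl⟩

theorem FLs_anti {L L' : Subgroup X} (h : L ≤ L') : FLs p L' ≤ FLs p L :=
  Subgroup.map_mono fun _ hw l hl => hw l (h hl)

section

variable (h : WPart K T p)
include h

/-- all lifts are fixed as soon as one is -/
theorem fix_of_fix {l : X} (hl : l ∈ K) {w w' : W} (hw : p w = p w') (h' : l • w' = w') : l • w = w := by
  have h1 := h.chi_eq hw hl
  rw [h', mul_inv_cancel] at h1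
  exact mul_inv_eq_one.1 h1

theorem mem_FL {l : X} (hl : l ∈ K) {w : W} : p w ∈ FL p l ↔ l • w = w := by
  constructor
  · rintro ⟨w', hw', e⟩
    exact fix_of_fix h hl e.symm (mem_cW_zpowers.1 hw')
  · exact mem_FL_of

theorem mem_FLs {L : Subgroup X} (hL : L ≤ K) {w : W} : p w ∈ FLs p L ↔ ∀ l ∈ L, l • w = w := by
  constructor
  · rintro ⟨w', hw', e⟩ l hl
    exact fix_of_fix h (hL hl) e.symm (hw' l hl)
  · exact mem_FLs_of

/-- lifts can be tested element by element -/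
theorem mem_FLs_iff {L : Subgroup X} (hL : L ≤ K) {m : M} : m ∈ FLs p L ↔ ∀ l ∈ L, m ∈ FL p l := by
  obtain ⟨w, rfl⟩ := h.surj m
  rw [mem_FLs h hL]
  exact forall₂_congr fun l hl => (mem_FL h (hL hl)).symm

theorem FLs_sup {L L' : Subgroup X} (hL : L ≤ K) (hL' : L' ≤ K) {m : M} (h1 : m ∈ FLs p L) (h2 : m ∈ FLs p L') :
    m ∈ FLs p (L ⊔ L') := by
  obtain ⟨w, rfl⟩ := h.surj m
  rw [mem_FLs h hL] at h1
  rw [mem_FLs h hL'] at h2
  rw [mem_FLs h (sup_le hL hL')]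
  have h3 : L ⊔ L' ≤ MulAction.stabilizer X w := sup_le (fun l hl => h1 l hl) fun l hl => h2 l hl
  exact fun l hl => h3 hl

theorem FLs_iSup {ι : Sort*} {L : ι → Subgroup X} (hL : ∀ i, L i ≤ K) {m : M} (h1 : ∀ i, m ∈ FLs p (L i)) :
    m ∈ FLs p (⨆ i, L i) := by
  obtain ⟨w, rfl⟩ := h.surj m
  rw [mem_FLs h (iSup_le hL)]
  have h3 : (⨆ i, L i) ≤ MulAction.stabilizer X w := iSup_le fun i l hl => (mem_FLs h (hL i)).1 (h1 i) l hl
  exact fun l hl => h3 hl

theorem smul_eq_of_mem_FL {l : X} {m : M} (hm : m ∈ FL p l) : l • m = m := by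
  obtain ⟨w, hw, rfl⟩ := hm
  rw [← h.eqv, mem_cW_zpowers.1 hw]

theorem smul_eq_of_mem_FLs {L : Subgroup X} {m : M} (hm : m ∈ FLs p L) {l : X} (hl : l ∈ L) : l • m = m := by
  obtain ⟨w, hw, rfl⟩ := hm
  rw [← h.eqv, hw l hl]

/-- conjugation -/
theorem smul_mem_FL {l g : X} {m : M} (hm : m ∈ FL p l) : g • m ∈ FL p (g * l * g⁻¹) := by
  obtain ⟨w, hw, rfl⟩ := hm
  rw [← h.eqv]
  refine mem_FL_of ?_
  rw [mul_smul, mul_smul, inv_smul_smul, mem_cW_zpowers.1 hw]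

theorem smul_mem_FLs {L L' : Subgroup X} {g : X} (hg : ∀ l ∈ L', g⁻¹ * l * g ∈ L) {m : M} (hm : m ∈ FLs p L) :
    g • m ∈ FLs p L' := by
  obtain ⟨w, hw, rfl⟩ := hm
  rw [← h.eqv]
  refine mem_FLs_of fun l hl => ?_
  have h1 := hw _ (hg l hl)
  rw [mul_smul, mul_smul, inv_smul_eq_iff] at h1
  exact h1

/-- **(INV)** an involution `t ∈ K` fixes the lifts of the vectors of `[M, t]` -/
theorem inv_mem {t : X} (h2 : t * t = 1) (m : M) : (t • m) * m⁻¹ ∈ FL p t := by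
  obtain ⟨v, rfl⟩ := h.surj m
  rw [← h.eqv, ← map_inv, ← map_mul]
  refine mem_FL_of ?_
  have e : ∀ w : W, w⁻¹ = w := fun w => inv_eq_of_mul_eq_one_left (h.sq w)
  rw [smul_mul', ← mul_smul, h2, one_smul, smul_inv', e, e, mul_comm]

/-- **(OPP)** `l` fixes `m` and commutes with `a` : then `l` fixes the lifts of `[m, a]` -/
theorem opp_mem {a l : X} (ha : ∀ z : W, p z = 1 → a • z = z) (hc : l * a = a * l) {m : M}
    (hlm : l • m = m) : (a • m) * m⁻¹ ∈ FL p l := by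
  obtain ⟨v, rfl⟩ := h.surj m
  rw [← h.eqv, ← map_inv, ← map_mul]
  refine mem_FL_of ?_
  obtain ⟨c, hc1, hc2⟩ : ∃ c : W, p c = 1 ∧ l • v = c * v :=
    ⟨(l • v) * v⁻¹, by rw [map_mul, map_inv, h.eqv, hlm, mul_inv_cancel], by group⟩
  rw [smul_mul', ← mul_smul, hc, mul_smul, smul_inv', hc2, smul_mul', ha c hc1]
  rw [mul_inv_rev, mul_comm v⁻¹ c⁻¹, ← mul_assoc, mul_comm c (a • v), mul_assoc (a • v) c c⁻¹, mul_inv_cancel, mul_one]

/-- (OPP) inside `K` -/
theorem opp_mem' {a l : X} (ha : a ∈ K) (hc : l * a = a * l) {m : M} (hlm : l • m = m) :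
    (a • m) * m⁻¹ ∈ FL p l :=
  opp_mem h (fun z hz => (h.ker z).1 hz a ha) hc hlm

/-- perfect subgroups: if `L ≤ K` fixes `m` then `⁅L, L⁆` fixes its lifts -/
theorem comm_mem {L : Subgroup X} (hL : L ≤ K) {m : M} (hm : ∀ l ∈ L, l • m = m) : m ∈ FLs p ⁅L, L⁆ := by
  obtain ⟨w, rfl⟩ := h.surj m
  exact mem_FLs_of (h.commutator_fix hL hm)

/-- **the contradiction** -/
theorem false_of_mem [Finite W] (hT : IsPGroup 2 T) (hK : K.Normal) (hodd : ¬ 2 ∣ (T ⊓ K).relIndex K) {m : M}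
    (hm : m ∈ FLs p (T ⊓ K)) (h1 : m ≠ 1) : False := by
  obtain ⟨w, hw, rfl⟩ := hm
  exact h1 (h.eq_one_of_fixed hT hK hodd hw)

end

/-- **(NORM)** -/
theorem norm_fix {L : Subgroup X} [Fintype L] (v : W) : ∀ l ∈ L, l • (∏ x : L, (x : X) • v) = ∏ x : L, (x : X) • v := by
  intro l hl
  rw [Finset.smul_prod']
  refine Fintype.prod_equiv (Equiv.mulLeft (⟨l, hl⟩ : L)) _ _ fun x => ?_
  rw [← mul_smul]
  rfl

theorem norm_mem {L : Subgroup X} [Fintype L] (v : W) : p (∏ x : L, (x : X) • v) ∈ FLs p L :=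
  mem_FLs_of (norm_fix v)

end Cfsg.Agent.Omega.FOne.Lift
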