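import Mathlib

/-!
# A complement avoiding a vector (OMEGA, (6''); helper115)

`K ⊴ X` acts on the finite group `M` of exponent two, `M` irreducible for `X`.

* `Inv K L` : `L ≤ M` is `K`-invariant;
* **`exists_irr`** : for `v ≠ 1` there are `K`-invariant `N`, `C` with `M = N × C`, `N` minimal, `v ∉ C`;
* `fix_left`, `fix_right` : an element of `K` fixing `n * c` fixes `n` and `c`.
-/

set_option autoImplicit false
set_option linter.unusedSectionVars false

namespace Cfsg.Agent.Omega.FOne.Lift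

open Subgroup

variable {X : Type*} [Group X] {M : Type*} [Group M] [MulDistribMulAction X M] {K : Subgroup X}

/-- `L` is `K`-invariant -/
def Inv (K : Subgroup X) (L : Subgroup M) : Prop := ∀ k ∈ K, ∀ m ∈ L, k • m ∈ L

theorem Inv.bot : Inv K (⊥ : Subgroup M) := by
  intro k _ m hm
  rw [mem_bot] at hm ⊢
  rw [hm, smul_one]

theorem Inv.inf {L L' : Subgroup M} (h : Inv K L) (h' : Inv K L') : Inv K (L ⊓ L') :=
  fun k hk m hm => ⟨h k hk m hm.1, h' k hk m hm.2⟩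

/-- minimal `K`-invariant -/
structure Mini (K : Subgroup X) (N : Subgroup M) : Prop where
  inv : Inv K N
  ne : N ≠ ⊥
  min : ∀ L : Subgroup M, L ≤ N → Inv K L → L = ⊥ ∨ L = N

theorem mul_comm_of_sq {M : Type*} [Group M] (sq : ∀ m : M, m * m = 1) (a b : M) : a * b = b * a := by
  have h1 : ∀ z : M, z⁻¹ = z := fun z => inv_eq_of_mul_eq_one_right (sq z)
  calc a * b = (a * b)⁻¹ := (h1 _).symm
    _ = b⁻¹ * a⁻¹ := mul_inv_rev _ _
    _ = b * a := by rw [h1, h1]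

theorem mem_sup_of_sq {M : Type*} [Group M] (sq : ∀ m : M, m * m = 1) {L L' : Subgroup M} {m : M} :
    m ∈ L ⊔ L' ↔ ∃ a ∈ L, ∃ b ∈ L', a * b = m := by
  have : L.Normal := ⟨fun n hn g => by rwa [mul_comm_of_sq sq g n, mul_inv_cancel_right]⟩
  exact Subgroup.mem_sup_of_normal_left

theorem Inv.sup (sq : ∀ m : M, m * m = 1) {L L' : Subgroup M} (h : Inv K L) (h' : Inv K L') : Inv K (L ⊔ L') := by
  intro k hk m hm
  obtain ⟨a, ha, b, hb, rfl⟩ := (mem_sup_of_sq sq).1 hm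
  rw [smul_mul']
  exact (mem_sup_of_sq sq).2 ⟨_, h k hk a ha, _, h' k hk b hb, rfl⟩

/-- the image under an element of `X` -/
def tr (x : X) (L : Subgroup M) : Subgroup M := L.map (MulDistribMulAction.toMonoidHom M x)

theorem mem_tr {x : X} {L : Subgroup M} {m : M} : m ∈ tr x L ↔ ∃ l ∈ L, x • l = m := Iff.rfl

theorem mem_tr' {x : X} {L : Subgroup M} {m : M} : m ∈ tr x L ↔ x⁻¹ • m ∈ L := by
  rw [mem_tr]
  constructor
  · rintro ⟨l, hl, rfl⟩
    rwa [inv_smul_smul]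
  · intro h
    exact ⟨_, h, smul_inv_smul x m⟩

theorem Inv.tr (hK : K.Normal) {L : Subgroup M} (h : Inv K L) (x : X) : Inv K (tr x L) := by
  intro k hk m hm
  rw [mem_tr'] at hm ⊢
  have h1 := h _ (hK.conj_mem k hk x⁻¹) _ hm
  rw [inv_inv, ← mul_smul] at h1
  rw [← mul_smul]
  have e : x⁻¹ * k * x * x⁻¹ = x⁻¹ * k := by group
  rwa [e] at h1

theorem Mini.tr (hK : K.Normal) {N : Subgroup M} (h : Mini K N) (x : X) : Mini K (tr x N) where
  inv := h.inv.tr hK x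
  ne := by
    intro h0
    apply h.ne
    rw [eq_bot_iff]
    intro n hn
    have h1 : x • n ∈ Lift.tr x N := ⟨n, hn, rfl⟩
    rw [h0, mem_bot] at h1
    rw [mem_bot, ← inv_smul_smul x n, h1, smul_one]
  min := by
    intro L hL hLi
    have h1 := h.min (Lift.tr x⁻¹ L) (by
      intro m hm
      rw [mem_tr', inv_inv] at hm
      have := mem_tr'.1 (hL hm)
      rwa [inv_smul_smul] at this) (hLi.tr hK x⁻¹)
    rcases h1 with h1 | h1
    · left
      rw [eq_bot_iff]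
      intro m hm
      have h2 : x⁻¹ • m ∈ Lift.tr x⁻¹ L := ⟨m, hm, rfl⟩
      rw [h1, mem_bot] at h2
      rw [mem_bot, ← smul_inv_smul x m, h2, smul_one]
    · right
      refine le_antisymm hL ?_
      intro m hm
      rw [mem_tr', ← h1, mem_tr', inv_inv, smul_inv_smul] at hm
      exact hm

/-- a nontrivial `K`-invariant subgroup contains a minimal one -/
theorem exists_mini [Finite M] {L : Subgroup M} (h : Inv K L) (h0 : L ≠ ⊥) : ∃ N ≤ L, Mini K N := by
  have hfin : {N : Subgroup M | Inv K N ∧ N ≠ ⊥ ∧ N ≤ L}.Finite := Set.toFinite _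
  obtain ⟨N, hN⟩ := hfin.exists_minimal ⟨L, h, h0, le_rfl⟩
  refine ⟨N, hN.1.2.2, hN.1.1, hN.1.2.1, fun L' hL' hi => ?_⟩
  by_cases h1 : L' = ⊥
  · exact Or.inl h1
  · right
    exact le_antisymm hL' (hN.2 ⟨hi, h1, hL'.trans hN.1.2.2⟩ hL')

/-- **A complement avoiding a vector.** -/
theorem exists_irr [Finite M] (hK : K.Normal) (sq : ∀ m : M, m * m = 1)
    (irr : ∀ L : Subgroup M, (∀ x : X, ∀ m ∈ L, x • m ∈ L) → L = ⊥ ∨ L = ⊤) {v : M} (hv : v ≠ 1) :
    ∃ N C : Subgroup M, Mini K N ∧ Inv K C ∧ v ∉ C ∧ N ⊓ C = ⊥ ∧ N ⊔ C = ⊤ := by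
  -- the minimal subgroups generate
  have hsoc : ∀ C : Subgroup M, C ≠ ⊤ → ∃ N : Subgroup M, Mini K N ∧ ¬ N ≤ C := by
    intro C hC
    by_contra hcon
    push Not at hcon
    set S : Subgroup M := sSup {N | Mini K N} with hS
    have hSi : ∀ x : X, ∀ m ∈ S, x • m ∈ S := by
      intro x
      have h1 : S ≤ tr x⁻¹ S := by
        rw [hS]
        refine sSup_le fun N hN => ?_
        intro m hm
        rw [mem_tr', inv_inv]
        have h2 : tr x N ≤ sSup {N | Mini K N} := le_sSup (Mini.tr hK hN x)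
        exact h2 ⟨m, hm, rfl⟩
      intro m hm
      have := mem_tr'.1 (h1 hm)
      rwa [inv_inv] at this
    rcases irr S hSi with h1 | h1
    · have h2 : (⊤ : Subgroup M) ≠ ⊥ := fun h3 => hv (mem_bot.1 (h3 ▸ mem_top v))
      obtain ⟨N, -, hN⟩ := exists_mini (K := K) (L := (⊤ : Subgroup M)) (fun _ _ _ _ => mem_top _) h2
      apply hN.ne
      rw [eq_bot_iff, ← h1]
      exact le_sSup hN
    · apply hC
      rw [eq_top_iff, ← h1]
      exact sSup_le fun N hN => hcon N hN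
  -- a maximal invariant subgroup avoiding `v`
  have hfin : {C : Subgroup M | Inv K C ∧ v ∉ C}.Finite := Set.toFinite _
  obtain ⟨C, hC⟩ := hfin.exists_maximal ⟨⊥, Inv.bot, fun h => hv (mem_bot.1 h)⟩
  have hmax : ∀ L : Subgroup M, Inv K L → ¬ L ≤ C → v ∈ C ⊔ L := by
    intro L hL hLC
    by_contra h1
    exact hLC (le_sup_right.trans (hC.2 ⟨hC.1.1.sup sq hL, h1⟩ le_sup_left))
  have hCt : C ≠ ⊤ := fun h => hC.1.2 (h ▸ mem_top v)
  obtain ⟨N, hN, hNC⟩ := hsoc C hCt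
  have hNC' : N ⊓ C = ⊥ := by
    rcases hN.min _ inf_le_left (hN.inv.inf hC.1.1) with h1 | h1
    · exact h1
    · exact absurd (inf_eq_left.1 h1) hNC
  refine ⟨N, C, hN, hC.1.1, hC.1.2, hNC', ?_⟩
  by_contra htop
  obtain ⟨N', hN', hN'C⟩ := hsoc _ htop
  have h1 : N' ⊓ (N ⊔ C) = ⊥ := by
    rcases hN'.min _ inf_le_left (hN'.inv.inf (hN.inv.sup sq hC.1.1)) with h1 | h1
    · exact h1
    · exact absurd (inf_eq_left.1 h1) hN'C
  obtain ⟨c, hc, n, hn, e⟩ := (mem_sup_of_sq sq).1 (hmax N hN.inv hNC)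
  obtain ⟨c', hc', n', hn', e'⟩ := (mem_sup_of_sq sq).1 (hmax N' hN'.inv fun h => hN'C (h.trans le_sup_right))
  have h2 : n' = n * (c'⁻¹ * c) := by
    rw [← e] at e'
    rw [mul_comm_of_sq sq n, mul_assoc, ← e', inv_mul_cancel_left]
  have h3 : n' ∈ N' ⊓ (N ⊔ C) := by
    refine ⟨hn', ?_⟩
    rw [h2]
    exact mul_mem (le_sup_left (α := Subgroup M) hn) (le_sup_right (α := Subgroup M) (mul_mem (inv_mem hc') hc))
  rw [h1, mem_bot] at h3
  apply hC.1.2
  rw [← e', h3, mul_one]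
  exact hc'

section dec

variable {N C : Subgroup M} (hN : Inv K N) (hC : Inv K C) (hNC : N ⊓ C = ⊥)

include hN hC hNC

theorem eq_of_mul {n n' c c' : M} (hn : n ∈ N) (hn' : n' ∈ N) (hc : c ∈ C) (hc' : c' ∈ C) (h : n * c = n' * c') :
    n = n' ∧ c = c' := by
  have h1 : n'⁻¹ * n = c' * c⁻¹ := by
    rw [eq_mul_inv_iff_mul_eq, mul_assoc, h, inv_mul_cancel_left]
  have h2 : n'⁻¹ * n ∈ N ⊓ C := by
    refine Subgroup.mem_inf.2 ⟨N.mul_mem (N.inv_mem hn') hn, ?_⟩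
    rw [h1]
    exact C.mul_mem hc' (C.inv_mem hc)
  rw [hNC, mem_bot] at h2
  have h3 : n = n' := (inv_mul_eq_one.1 h2).symm
  subst h3
  exact ⟨rfl, mul_left_cancel h⟩

theorem fix_left {k : X} (hk : k ∈ K) {n c : M} (hn : n ∈ N) (hc : c ∈ C) (h : k • (n * c) = n * c) : k • n = n := by
  rw [smul_mul'] at h
  exact (eq_of_mul hN hC hNC (hN k hk n hn) hn (hC k hk c hc) hc h).1

end dec

end Cfsg.Agent.Omega.FOne.Lift
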