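import Cfsg.Agent.Omega.FOne.Lift.Clif
import Cfsg.Agent.Omega.CR.Act

/-!
# The `U`-fixed vectors of an irreducible module, trivial torus (OMEGA, (6''); helper115)

`K ≤ X` acts on the group `M` of exponent two; `R` a root group datum in `K` with trivial torus which generates `K`.

* **`eq_of_fixed`** (Curtis, Richen) : `N ≤ M` minimal `K`-invariant: at most one element `≠ 1` of `N` is fixed by `U`.
-/

set_option autoImplicit false
set_option linter.unusedSectionVars false

namespace Cfsg.Agent.Omega.FOne.Lift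

open CoxeterSystem Cfsg.Agent.ChevalleyStructure.CoxeterGeom Cfsg.Agent.Tits.Roots Cfsg.Agent.Tits.Core
  Cfsg.Agent.Tits.RootComb Cfsg.Agent.Nodes.Comb Cfsg.Agent.Nodes.Reps Cfsg.Agent.Nodes.BNOf
  Cfsg.Agent.Nodes.Bruhat
open Cfsg.Agent.Omega.CR

variable {X : Type*} [Group X] {M : Type*} [Group M] [MulDistribMulAction X M] {K : Subgroup X}

/-- the commutative group `N` -/
@[reducible] def cg (sq : ∀ m : M, m * m = 1) (N : Subgroup M) : CommGroup N :=
  { (inferInstance : Group N) with mul_comm := fun a b => Subtype.ext (mul_comm_of_sq sq a b) }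

section

variable {N : Subgroup M} (hN : Inv K N)

/-- the action of `K` on `N` -/
@[reducible] def actN : SMul K N := ⟨fun k n => ⟨(k : X) • (n : M), hN k k.2 n n.2⟩⟩

end

variable {I Wy : Type*} [Fintype I] [DecidableEq I] [Group Wy] {Mx : CoxeterMatrix I}
  {cs : CoxeterSystem Mx Wy} {A : I → I → ℤ} {h : IsCartan Mx A} {Tt : Subgroup K} {n : I → K}
  {Xr : (I → ℤ) → Subgroup K}

/-- **Curtis, Richen.** -/
theorem eq_of_fixed [Finite X] [Finite M] [Finite Wy] (sq : ∀ m : M, m * m = 1) {N : Subgroup M} (hN : Mini K N)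
    (R : RGD cs h 2 Tt n Xr) (hG : GG cs h Tt Xr = ⊤) (hT : Tt = ⊥) {a b : M} (ha : a ∈ N) (hb : b ∈ N)
    (ha1 : a ≠ 1) (hb1 : b ≠ 1) (hau : ∀ u ∈ RGD.Sup Xr (RGD.Pos cs h), (u : X) • a = a)
    (hbu : ∀ u ∈ RGD.Sup Xr (RGD.Pos cs h), (u : X) • b = b) : a = b := by
  have : Fact (Nat.Prime 2) := ⟨Nat.prime_two⟩
  let _ : CommGroup N := cg sq N
  let _ : DistribMulAction K (Additive N) :=
    { smul := fun k v => Additive.ofMul ⟨(k : X) • ((v.toMul : N) : M), hN.inv k k.2 _ v.toMul.2⟩
      one_smul := fun v => by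
        apply Additive.toMul.injective
        exact Subtype.ext (one_smul X _)
      mul_smul := fun k l v => by
        apply Additive.toMul.injective
        exact Subtype.ext (mul_smul (k : X) (l : X) _)
      smul_zero := fun k => by
        apply Additive.toMul.injective
        exact Subtype.ext (smul_one (k : X))
      smul_add := fun k v w => by
        apply Additive.toMul.injective
        exact Subtype.ext (smul_mul' (k : X) _ _) }
  have hsm : ∀ (k : K) (m : M) (hm : m ∈ N) (hm' : (k : X) • m ∈ N),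
      k • (Additive.ofMul (⟨m, hm⟩ : N)) = Additive.ofMul (⟨(k : X) • m, hm'⟩ : N) := fun _ _ _ _ => rfl
  have F : Fam (fun _ : Unit => cs) (fun _ => h) 2 Tt (fun _ => n) (fun _ => Xr) (fun _ => (⊤ : Subgroup K)) :=
    { rgd := fun _ => R
      X_le := fun _ _ _ => le_top
      n_mem := fun _ _ => Subgroup.mem_top _
      comm := fun l m hlm => absurd (Subsingleton.elim l m) hlm }
  have hUt : Ut (fun _ : Unit => cs) (fun _ => h) (fun _ => Xr) = RGD.Sup Xr (RGD.Pos cs h) := by
    unfold Ut
    exact iSup_const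
  have hGt : GGt (fun _ : Unit => cs) (fun _ => h) Tt (fun _ => Xr) = ⊤ := by
    rw [eq_top_iff, ← hG]
    exact GG_le_GGt (cs := fun _ : Unit => cs) (h := fun _ => h) (T := Tt) (X := fun _ => Xr) ()
  have hp : ∀ v : Additive N, (2 : ℕ) • v = 0 := by
    intro v
    rw [two_nsmul]
    apply Additive.toMul.injective
    exact Subtype.ext (sq _)
  have hirr : ∀ L : AddSubgroup (Additive N), (∀ g ∈ GGt (fun _ : Unit => cs) (fun _ => h) Tt (fun _ => Xr),
      ∀ v ∈ L, g • v ∈ L) → L = ⊥ ∨ L = ⊤ := by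
    intro L hL
    rw [hGt] at hL
    set L' : Subgroup M := (AddSubgroup.toSubgroup' L).map N.subtype with hL'
    have hmem : ∀ (m : M) (hm : m ∈ N), m ∈ L' ↔ Additive.ofMul (⟨m, hm⟩ : N) ∈ L := by
      intro m hm
      rw [hL', Subgroup.mem_map]
      constructor
      · rintro ⟨x, hx, rfl⟩
        exact hx
      · intro hx
        exact ⟨⟨m, hm⟩, hx, rfl⟩
    have hle : L' ≤ N := Subgroup.map_subtype_le _
    have hinv : Inv K L' := by
      intro k hk m hm
      rw [hmem _ (hN.inv k hk m (hle hm))]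
      have h1 := (hmem m (hle hm)).1 hm
      exact hL ⟨k, hk⟩ (Subgroup.mem_top _) _ h1
    rcases hN.min L' hle hinv with h1 | h1
    · left
      rw [eq_bot_iff]
      intro v hv
      have h2 : ((v.toMul : N) : M) ∈ L' := (hmem _ v.toMul.2).2 hv
      rw [h1, Subgroup.mem_bot] at h2
      rw [AddSubgroup.mem_bot]
      apply Additive.toMul.injective
      exact Subtype.ext h2
    · right
      rw [eq_top_iff]
      intro v _
      exact (hmem _ v.toMul.2).1 (by rw [h1]; exact v.toMul.2)
  set a' : Additive N := Additive.ofMul ⟨a, ha⟩ with ha'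
  set b' : Additive N := Additive.ofMul ⟨b, hb⟩ with hb'
  have ha0 : a' ≠ 0 := fun h0 => ha1 (congrArg (fun v : Additive N => ((v.toMul : N) : M)) h0)
  have hfa : ∀ u ∈ RGD.Sup Xr (RGD.Pos cs h), u • a' = a' := by
    intro u hu
    apply Additive.toMul.injective
    exact Subtype.ext (hau u hu)
  have hfb : ∀ u ∈ RGD.Sup Xr (RGD.Pos cs h), u • b' = b' := by
    intro u hu
    apply Additive.toMul.injective
    exact Subtype.ext (hbu u hu)
  have haa : a' + a' = 0 := by
    have := hp a'
    rwa [two_nsmul] at this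
  have hb2 : b' ∈ AddSubgroup.zmultiples a' := by
    refine F.act_le hp hirr (e := AddSubgroup.zmultiples a') ?_ ?_ ?_ (x := b') ?_
    · intro h0
      rw [AddSubgroup.zmultiples_eq_bot] at h0
      exact ha0 h0
    · intro u hu x hx
      rw [hUt] at hu
      obtain ⟨j, rfl⟩ := AddSubgroup.mem_zmultiples_iff.1 hx
      have h1 : u • (j • a') = j • (u • a') := map_zsmul (DistribSMul.toAddMonoidHom (Additive N) u) j a'
      rw [h1, hfa u hu]
    · intro t ht x hx
      rw [hT, Subgroup.mem_bot] at ht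
      rwa [ht, one_smul]
    · intro u hu
      rw [hUt] at hu
      exact hfb u hu
  obtain ⟨j, hj⟩ := AddSubgroup.mem_zmultiples_iff.1 hb2
  rcases Int.even_or_odd j with ⟨k, rfl⟩ | ⟨k, rfl⟩
  · exfalso
    rw [add_zsmul, ← zsmul_add, haa, zsmul_zero] at hj
    exact hb1 (congrArg (fun v : Additive N => ((v.toMul : N) : M)) hj).symm
  · rw [add_zsmul, mul_comm, mul_zsmul, two_zsmul, haa, zsmul_zero, zero_add, one_zsmul] at hj
    exact congrArg (fun v : Additive N => ((v.toMul : N) : M)) hj

end Cfsg.Agent.Omega.FOne.Lift
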