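import Cfsg.Agent.Omega.FOne.Lift.FPos
import Cfsg.Agent.Omega.FOne.Lift.Irr

/-!
# `F₄(2)` with the middle nodes fixing the vector (OMEGA, (6''), #23144; helper115)

* **`mid_false`** : `K = F₄(2)` normal in `X`, `M` irreducible for `X`, `WPart K T p`, `T ∩ K = U`: no `m ∈ C_M(U)` is
  fixed by the nodes `1`, `2` and moved by the node `0`.
-/

set_option autoImplicit false
set_option linter.unusedSectionVars false

namespace Cfsg.Agent.Omega.FOne.Lift.FFour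

open CoxeterSystem Cfsg.Agent.ChevalleyStructure.CoxeterGeom Cfsg.Agent.Tits.Roots Cfsg.Agent.Tits.Core
  Cfsg.Agent.Tits.RootComb Cfsg.Agent.Nodes.Comb Cfsg.Agent.Nodes.Reps Cfsg.Agent.Nodes.BNOf
  Cfsg.Agent.Nodes.Coroot Cfsg.Agent.Nodes.Bruhat
open Cfsg.Lie Cfsg.Agent.ChevalleyStructure Cfsg.Agent.ChevalleyStructure.RootVec
  Cfsg.Agent.ChevalleyStructure.CoxeterGeomTypes Cfsg.Agent.Nodes.RGDChev Cfsg.Agent.Nodes
  Cfsg.Agent.Nodes.KindChev Cfsg.Agent.KFacts.ChevTwo Cfsg.Agent.Omega.ML.Ex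
open Cfsg.Agent.Omega.FOne.Lift.FPos
open scoped commutatorElement

variable {X : Type*} [Group X] {M : Type*} [Group M] [MulDistribMulAction X M] {K : Subgroup X}

section

variable {I Wy : Type*} [Fintype I] [DecidableEq I] [Group Wy] {Mx : CoxeterMatrix I}
  {cs : CoxeterSystem Mx Wy} {A : I → I → ℤ} {h : IsCartan Mx A} {Tt : Subgroup K} {n : I → K}
  {Xr : (I → ℤ) → Subgroup K} {F : Type*} [Field F] {e : (I → ℤ) → F → K} {R : RGD cs h 2 Tt n Xr}

/-- the torus of a group over the field of order two is trivial -/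
theorem torus_eq_bot (S : Sys R e) (hF : ∀ t : F, t = 0 ∨ t = 1) (hG : RGDLib.G1 cs h Xr = ⊤)
    (hZ : Subgroup.center K = ⊥) : Tt = ⊥ := by
  have hu : ∀ u : Fˣ, u = 1 := by
    intro u
    apply Units.ext
    rcases hF (u : F) with h0 | h0
    · exact absurd h0 u.ne_zero
    · exact h0
  have h1 : ∀ t ∈ Tt, ∀ x, IsRoot cs h x → ∀ c, t * e x c = e x c * t := by
    intro t ht x hx c
    obtain ⟨χ, hχ⟩ := S.chi t ht
    have h2 := hχ x hx c
    rw [hu (χ x).toMul, Units.val_one, one_mul] at h2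
    rwa [mul_inv_eq_iff_eq_mul] at h2
  rw [eq_bot_iff, ← hZ]
  intro t ht
  rw [Subgroup.mem_center_iff]
  intro g
  have h2 : RGDLib.G1 cs h Xr ≤ Subgroup.centralizer ({t} : Set K) := by
    refine RGD.Sup_le fun x hx v hv => ?_
    rw [Subgroup.mem_centralizer_singleton_iff]
    obtain ⟨u, rfl⟩ := (S.mem_X x hx v).1 hv
    exact (h1 t ht x hx u).symm
  have h3 : g ∈ Subgroup.centralizer ({t} : Set K) := h2 (by rw [hG]; exact Subgroup.mem_top g)
  exact Subgroup.mem_centralizer_singleton_iff.1 h3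

/-- `T_i m = (n_i m) (x_i n_i m)` -/
def T1 (e : (I → ℤ) → F → K) (i : I) (m : M) : M :=
  (((nel e (sr i) : K) : X) • m) * (((e (sr i) 1 * nel e (sr i) : K) : X) • m)

theorem T1_mul (sq : ∀ m : M, m * m = 1) (i : I) (a b : M) : T1 e i (a * b) = T1 e i a * T1 e i b := by
  unfold T1
  rw [smul_mul', smul_mul']
  have hc := mul_comm_of_sq sq
  generalize ((nel e (sr i) : K) : X) • a = a1
  generalize ((nel e (sr i) : K) : X) • b = b1
  generalize ((e (sr i) 1 * nel e (sr i) : K) : X) • a = a2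
  generalize ((e (sr i) 1 * nel e (sr i) : K) : X) • b = b2
  rw [mul_assoc, ← mul_assoc b1, hc b1 a2, mul_assoc a2, ← mul_assoc]

theorem T1_mem {L : Subgroup M} (hL : Inv K L) (i : I) {a : M} (ha : a ∈ L) : T1 e i a ∈ L :=
  L.mul_mem (hL _ (nel e (sr i)).2 a ha) (hL _ (e (sr i) 1 * nel e (sr i)).2 a ha)

/-- `T_i` preserves `C_M(U)` -/
theorem T1_fix (S : Sys R e) (hF : ∀ t : F, t = 0 ∨ t = 1) (sq : ∀ m : M, m * m = 1) {m : M}
    (hm : ∀ u ∈ RGD.Sup Xr (RGD.Pos cs h), (u : X) • m = m) (i : I) :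
    ∀ u ∈ RGD.Sup Xr (RGD.Pos cs h), (u : X) • (T1 e i m : M) = T1 e i m := by
  have hV : ∀ g ∈ RGD.Sup Xr (RGD.PosNe cs h i), (g : X) • (((nel e (sr i) : K) : X) • m) = ((nel e (sr i) : K) : X) • m := by
    intro g hg
    have h2 : (nel e (sr i))⁻¹ * g * nel e (sr i) ∈ RGD.Sup Xr (RGD.PosNe cs h i) := by
      have := R.cj_n_V i
      rw [← this, mem_cj, S.n_eq] at hg
      exact hg
    have h3 := hm _ (RGD.Sup_mono (S := RGD.PosNe cs h i) (S' := RGD.Pos cs h) (fun z hz => ⟨hz.1, hz.2.1⟩) h2)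
    have h4 : (g : X) * ((nel e (sr i) : K) : X) =
        ((nel e (sr i) : K) : X) * (((nel e (sr i))⁻¹ * g * nel e (sr i) : K) : X) := by
      push_cast
      group
    rw [← mul_smul, h4, mul_smul, h3]
  have key : ∀ g ∈ RGD.Sup Xr (RGD.PosNe cs h i), (g : X) • (T1 e i m : M) = T1 e i m := by
    intro g hg
    have h1 : (e (sr i) 1)⁻¹ * g * e (sr i) 1 ∈ RGD.Sup Xr (RGD.PosNe cs h i) := by
      have := R.X_le_normalizer_V i ((S.mem_X _ (isRoot_sr cs h i) _).2 ⟨1, rfl⟩)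
      have h2 := (Subgroup.mem_normalizer_iff.1 (Subgroup.inv_mem _ this) g).1 hg
      rwa [inv_inv] at h2
    have h4 : (g : X) * ((e (sr i) 1 * nel e (sr i) : K) : X) =
        ((e (sr i) 1 : K) : X) * (((e (sr i) 1)⁻¹ * g * e (sr i) 1 : K) : X) * ((nel e (sr i) : K) : X) := by
      push_cast
      group
    unfold T1
    rw [smul_mul', hV g hg, ← mul_smul, h4, mul_smul, mul_smul, hV _ h1, Subgroup.coe_mul, mul_smul]
  let St : Subgroup K := (MulAction.stabilizer X (T1 e i m : M)).subgroupOf K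
  have hSt : RGD.Sup Xr (RGD.Pos cs h) ≤ St := by
    rw [R.Upos_eq i]
    refine sup_le ?_ key
    intro a ha
    obtain ⟨t, rfl⟩ := (S.mem_X _ (isRoot_sr cs h i) _).1 ha
    rcases hF t with rfl | rfl
    · rw [S.data.zero (isRoot_sr cs h i)]
      exact one_mem _
    · change ((e (sr i) 1 : K) : X) • (T1 e i m : M) = T1 e i m
      unfold T1
      rw [smul_mul', ← mul_smul, ← mul_smul, ← Subgroup.coe_mul, ← Subgroup.coe_mul, ← mul_assoc (e (sr i) 1),
        S.data.sq (isRoot_sr cs h i), one_mul]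
      exact mul_comm_of_sq sq _ _
  exact fun u hu => hSt hu

theorem nel_sq (D : Data cs h e) (i : I) : nel e (sr i) * nel e (sr i) = 1 := by
  rw [nel_def]
  have h1 := D.sq (isRoot_sr cs h i) 1
  have h2 := D.sq (isRoot_sr cs h i).neg 1
  calc e (sr i) 1 * e (-sr i) 1 * e (sr i) 1 * (e (sr i) 1 * e (-sr i) 1 * e (sr i) 1)
      = e (sr i) 1 * e (-sr i) 1 * (e (sr i) 1 * e (sr i) 1) * (e (-sr i) 1 * e (sr i) 1) := by
        simp only [mul_assoc]
    _ = e (sr i) 1 * (e (-sr i) 1 * e (-sr i) 1) * e (sr i) 1 := by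
        rw [h1]; simp only [mul_assoc, mul_one]
    _ = 1 := by rw [h2, mul_one, h1]

/-- if `T_i m = 1` then `X_{-i}` fixes `m` -/
theorem neg_fix (D : Data cs h e) (sq : ∀ m : M, m * m = 1) {m : M} {i : I}
    (hm : ((e (sr i) 1 : K) : X) • m = m) (hT : (T1 e i m : M) = 1) : ((e (-sr i) 1 : K) : X) • m = m := by
  -- `n_i m = x_i n_i m = y m`
  have h1 : ((nel e (sr i) : K) : X) • m = ((e (sr i) 1 * nel e (sr i) : K) : X) • m := by
    unfold T1 at hT
    rw [← mul_inv_eq_one, inv_eq_of_mul_eq_one_left (sq _), hT]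
  have h2 : e (sr i) 1 * nel e (sr i) = e (-sr i) 1 * e (sr i) 1 := by
    rw [nel_def, ← mul_assoc, ← mul_assoc, D.sq (isRoot_sr cs h i), one_mul]
  have h3 : ((nel e (sr i) : K) : X) • m = ((e (-sr i) 1 : K) : X) • m := by
    rw [h1, h2, Subgroup.coe_mul, mul_smul, hm]
  have h4 := D.refl i (-sr i) (isRoot_sr cs h i).neg 1
  rw [map_neg, rep_simple_sr, _root_.neg_neg, mul_inv_eq_iff_eq_mul] at h4
  -- `n_i y = x_i n_i`
  have h5 : ((nel e (sr i) * nel e (sr i) : K) : X) • m = m := by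
    rw [nel_sq D, OneMemClass.coe_one, one_smul]
  rw [Subgroup.coe_mul, mul_smul, h3, ← mul_smul, ← Subgroup.coe_mul, h4, ← h1, h3] at h5
  exact h5

end

section F4

variable {W : Type*} [CommGroup W] [MulDistribMulAction X W] {T : Subgroup X} {p : W →* M}
  {Wy : Type*} [Group Wy] [Finite Wy] {cs : CoxeterSystem CoxeterMatrix.F₄ Wy}
  {h : IsCartan CoxeterMatrix.F₄ (cartanOf chevF4 4)} {F : Type*} [Field F] {e : (Fin 4 → ℤ) → F → K}
  {Tt : Subgroup K} {n : Fin 4 → K} {Xr : (Fin 4 → ℤ) → Subgroup K} {R : RGD cs h 2 Tt n Xr}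

/-- **`F₄(2)`, the middle nodes fix `m`.** -/
theorem mid_false [Finite X] [Finite M] [Finite W] (hK : K.Normal) (sq : ∀ m : M, m * m = 1)
    (irr : ∀ L : Subgroup M, (∀ x : X, ∀ m ∈ L, x • m ∈ L) → L = ⊥ ∨ L = ⊤) (hW : WPart K T p)
    (hT2 : IsPGroup 2 T) (hodd : ¬ 2 ∣ (T ⊓ K).relIndex K) (S : Sys R e) (hF : ∀ t : F, t = 0 ∨ t = 1)
    (hG : RGDLib.G1 cs h Xr = ⊤) (hZ : Subgroup.center K = ⊥)
    (hU : RGD.Sup Xr (RGD.Pos cs h) = T.subgroupOf K) {m : M} (hTm : ∀ t ∈ T ⊓ K, t • m = m)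
    (hm1 : ((e (-sr 1) 1 : K) : X) • m = m) (hm2 : ((e (-sr 2) 1 : K) : X) • m = m)
    (hm0 : ((e (-sr 0) 1 : K) : X) • m ≠ m) : False := by
  have D := S.data
  have hTt := torus_eq_bot S hF hG hZ
  have hGG : GG cs h Tt Xr = ⊤ := by
    rw [eq_top_iff, ← hG]
    exact RGD.Sup_le fun x hx => X_le_GG hx
  have hUm : ∀ u ∈ RGD.Sup Xr (RGD.Pos cs h), (u : X) • m = m := by
    intro u hu
    rw [hU, Subgroup.mem_subgroupOf] at hu
    exact hTm _ ⟨hu, u.2⟩
  have heU : ∀ x ∈ RGD.Pos cs h, e x 1 ∈ RGD.Sup Xr (RGD.Pos cs h) := fun x hx =>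
    RGD.le_Sup hx ((S.mem_X x hx.1 _).2 ⟨1, rfl⟩)
  have hpos : ∀ i : Fin 4, (sr i : Fin 4 → ℤ) ∈ RGD.Pos cs h := fun i => ⟨isRoot_sr cs h i, sr_nonneg i⟩
  -- `v = T_0 m`
  have hv : (T1 e 0 m : M) ≠ 1 := fun h0 => hm0 (neg_fix D sq (hUm _ (heU _ (hpos 0))) h0)
  obtain ⟨N, C, hN, hC, hvC, hNC, hNCt⟩ := exists_irr hK sq irr hv
  obtain ⟨a, ha, c, hc, hac⟩ := (mem_sup_of_sq sq).1 (show m ∈ N ⊔ C by rw [hNCt]; exact Subgroup.mem_top m)
  have hfix : ∀ k : K, (k : X) • m = m → (k : X) • a = a := by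
    intro k hk
    rw [← hac] at hk
    exact fix_left hN.inv hC hNC k.2 ha hc hk
  have hTa : (T1 e 0 a : M) ≠ 1 := by
    intro h0
    apply hvC
    rw [← hac, T1_mul sq, h0, one_mul]
    exact T1_mem hC 0 hc
  have ha1 : a ≠ 1 := by
    rintro rfl
    apply hTa
    unfold T1
    rw [smul_one, smul_one, one_mul]
  have hUa : ∀ u ∈ RGD.Sup Xr (RGD.Pos cs h), (u : X) • a = a := fun u hu => hfix u (hUm u hu)
  have hTaa : (T1 e 0 a : M) = a :=
    eq_of_fixed sq hN R hGG hTt (T1_mem hN.inv 0 ha) ha hTa ha1 (T1_fix S hF sq hUa 0) hUa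
  obtain ⟨w, rfl⟩ := hW.surj a
  have hnel : ∀ i : Fin 4, ((e (-sr i) 1 : K) : X) • m = m → ((nel e (sr i) : K) : X) • p w = p w := by
    intro i hi
    have h1 := hfix _ hi
    have h2 := hUa _ (heU _ (hpos i))
    rw [nel_def, Subgroup.coe_mul, Subgroup.coe_mul, mul_smul, mul_smul, h2, h1, h2]
  have hs : p w * (((nel e (sr 0) : K) : X) • p w) * (((e (sr 0) 1 * nel e (sr 0) : K) : X) • p w) = 1 := by
    rw [mul_assoc]
    change p w * T1 e 0 (p w) = 1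
    rw [hTaa, sq]
  have hall := pos_fix D hW (w := w) (fun x hx => hUa _ (heU x hx)) (hnel 1 hm1) (hnel 2 hm2) hs
  have hle : RGD.Sup Xr (RGD.Pos cs h) ≤ (MulAction.stabilizer X w).subgroupOf K := by
    refine RGD.Sup_le fun x hx u hu => ?_
    obtain ⟨t, rfl⟩ := (S.mem_X x hx.1 u).1 hu
    rcases hF t with rfl | rfl
    · rw [D.zero hx.1]
      exact one_mem _
    · exact hall x hx
  apply ha1
  refine hW.eq_one_of_fixed hT2 hK hodd ?_
  intro t ht
  have h1 : (⟨t, ht.2⟩ : K) ∈ RGD.Sup Xr (RGD.Pos cs h) := by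
    rw [hU, Subgroup.mem_subgroupOf]
    exact ht.1
  exact hle h1

end F4

end Cfsg.Agent.Omega.FOne.Lift.FFour
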