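import Cfsg.Agent.Omega.FOne.Lift.Panel
import Cfsg.Agent.Nodes.KindF
import Cfsg.Agent.KFacts.ChevTwoSysInst

/-!
# `F₄(2)`: the positive root elements fix a lift (OMEGA, (6''), #23144; helper115)

`e : roots → F → K` the root elements of `F₄(F)` (nodes `0`, `1` short, `2`, `3` long), `p : W → M` as in `WPart K T p`,
`w : W` such that `U` fixes `p w`, the nodes `1`, `2` fix `p w` and the panel sum of `p w` for the node `0` is trivial.

* **`pos_fix`** : then all `e x 1`, `x` a positive root, fix `w`.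
-/

set_option autoImplicit false
set_option linter.unusedSectionVars false

namespace Cfsg.Agent.Omega.FOne.Lift.FPos

open CoxeterSystem Cfsg.Agent.ChevalleyStructure.CoxeterGeom Cfsg.Agent.Tits.Roots Cfsg.Agent.Tits.Core
  Cfsg.Agent.Tits.RootComb Cfsg.Agent.Nodes.Comb Cfsg.Agent.Nodes.Reps Cfsg.Agent.Nodes.BNOf
  Cfsg.Agent.Nodes.Coroot
open Cfsg.Lie Cfsg.Agent.ChevalleyStructure Cfsg.Agent.ChevalleyStructure.RootVec
  Cfsg.Agent.ChevalleyStructure.CoxeterGeomTypes Cfsg.Agent.Nodes.RGDChev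
  Cfsg.Agent.Nodes.KindChev Cfsg.Agent.KFacts.ChevTwo Cfsg.Agent.Omega.ML.Ex
open scoped commutatorElement

/-! ### The root system of type `F₄` -/

/-- positive roots -/
def Rt (x : Fin 4 → ℤ) : Prop := (∃ r ∈ Finset.range 48, ∀ i, vec chevF4 4 r i = x i) ∧ ∀ i, 0 ≤ x i

instance (x : Fin 4 → ℤ) : Decidable (Rt x) := by unfold Rt; infer_instance

/-- `z = x + y`, all three of the same length -/
def C1 (x y z : Fin 4 → ℤ) : Prop := Rt x ∧ Rt y ∧ (∀ i, x i + y i = z i) ∧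
  qf (cartanOf chevF4 4) Nodes.KindF.d x x ≠ 0 ∧ qf (cartanOf chevF4 4) Nodes.KindF.d y y ≠ 0 ∧
  -1 * qf (cartanOf chevF4 4) Nodes.KindF.d y y = 2 * qf (cartanOf chevF4 4) Nodes.KindF.d x y ∧
  -1 * qf (cartanOf chevF4 4) Nodes.KindF.d x x = 2 * qf (cartanOf chevF4 4) Nodes.KindF.d y x

instance (x y z : Fin 4 → ℤ) : Decidable (C1 x y z) := by unfold C1 qf pairing; infer_instance

/-- `x` long, `y` short, `z = x + y`, `z' = x + 2 y` -/
def C2 (x y z z' : Fin 4 → ℤ) : Prop := Rt x ∧ Rt y ∧ (∀ i, x i + y i = z i) ∧ (∀ i, x i + 2 * y i = z' i) ∧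
  qf (cartanOf chevF4 4) Nodes.KindF.d x x ≠ 0 ∧ qf (cartanOf chevF4 4) Nodes.KindF.d y y ≠ 0 ∧
  -2 * qf (cartanOf chevF4 4) Nodes.KindF.d y y = 2 * qf (cartanOf chevF4 4) Nodes.KindF.d x y ∧
  -1 * qf (cartanOf chevF4 4) Nodes.KindF.d x x = 2 * qf (cartanOf chevF4 4) Nodes.KindF.d y x

instance (x y z z' : Fin 4 → ℤ) : Decidable (C2 x y z z') := by unfold C2 qf pairing; infer_instance

/-- `z = s_i x` -/
def C3 (i : Fin 4) (x z : Fin 4 → ℤ) : Prop := Rt x ∧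
  ∀ j, x j - pairing (cartanOf chevF4 4) i x * (sr i : Fin 4 → ℤ) j = z j

instance (i : Fin 4) (x z : Fin 4 → ℤ) : Decidable (C3 i x z) := by unfold C3 pairing sr; infer_instance

set_option backward.isDefEq.respectTransparency false in
theorem hd : ∀ i j, Nodes.KindF.d i * cartanOf chevF4 4 i j = Nodes.KindF.d j * cartanOf chevF4 4 j i := by
  decide +kernel

set_option backward.isDefEq.respectTransparency false in
theorem tab1 : C1 ![0, 0, 0, 1] ![0, 0, 1, 0] ![0, 0, 1, 1] ∧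
    C1 ![0, 0, 0, 1] ![0, 2, 1, 0] ![0, 2, 1, 1] ∧
    C1 ![0, 0, 0, 1] ![2, 2, 1, 0] ![2, 2, 1, 1] ∧
    C1 ![0, 0, 0, 1] ![2, 4, 3, 1] ![2, 4, 3, 2] ∧
    C1 ![0, 0, 1, 0] ![0, 2, 1, 1] ![0, 2, 2, 1] ∧
    C1 ![0, 0, 1, 0] ![2, 2, 1, 1] ![2, 2, 2, 1] ∧
    C1 ![0, 0, 1, 0] ![2, 4, 2, 1] ![2, 4, 3, 1] ∧
    C1 ![0, 1, 0, 0] ![1, 0, 0, 0] ![1, 1, 0, 0] ∧
    C1 ![0, 1, 0, 0] ![1, 1, 1, 0] ![1, 2, 1, 0] ∧
    C1 ![0, 1, 0, 0] ![1, 1, 1, 1] ![1, 2, 1, 1] ∧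
    C1 ![0, 1, 0, 0] ![1, 2, 2, 1] ![1, 3, 2, 1] ∧
    C1 ![1, 0, 0, 0] ![0, 1, 1, 0] ![1, 1, 1, 0] ∧
    C1 ![1, 0, 0, 0] ![0, 1, 1, 1] ![1, 1, 1, 1] ∧
    C1 ![1, 0, 0, 0] ![1, 3, 2, 1] ![2, 3, 2, 1] ∧
    C1 ![0, 1, 1, 0] ![1, 1, 1, 1] ![1, 2, 2, 1] ∧
    C1 ![0, 2, 1, 0] ![2, 2, 1, 1] ![2, 4, 2, 1] := by
  decide +kernel

set_option backward.isDefEq.respectTransparency false in
theorem tab2 : C2 ![0, 0, 0, 1] ![0, 1, 1, 0] ![0, 1, 1, 1] ![0, 2, 2, 1] ∧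
    C2 ![0, 0, 1, 0] ![0, 1, 0, 0] ![0, 1, 1, 0] ![0, 2, 1, 0] ∧
    C2 ![0, 0, 1, 0] ![1, 1, 0, 0] ![1, 1, 1, 0] ![2, 2, 1, 0] := by
  decide +kernel

set_option backward.isDefEq.respectTransparency false in
theorem tab3 : C3 1 ![0, 0, 1, 0] ![0, 2, 1, 0] ∧
    C3 1 ![1, 1, 0, 0] ![1, 0, 0, 0] ∧
    C3 2 ![0, 1, 1, 0] ![0, 1, 0, 0] := by
  decide +kernel

/-- the positive roots -/
def lst : List (Fin 4 → ℤ) :=
  [![0, 0, 1, 0], ![0, 0, 0, 1], ![0, 0, 1, 1], ![0, 2, 1, 1], ![2, 2, 1, 1], ![2, 4, 3, 2], ![0, 2, 2, 1],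
    ![2, 2, 2, 1], ![2, 4, 3, 1], ![1, 1, 0, 0], ![1, 2, 1, 0], ![1, 2, 1, 1], ![1, 3, 2, 1], ![1, 1, 1, 0],
    ![1, 1, 1, 1], ![2, 3, 2, 1], ![1, 2, 2, 1], ![2, 4, 2, 1], ![0, 2, 1, 0], ![0, 1, 1, 1], ![0, 1, 1, 0],
    ![2, 2, 1, 0], ![1, 0, 0, 0], ![0, 1, 0, 0]]

set_option backward.isDefEq.respectTransparency false in
theorem tab_all : ∀ r ∈ Finset.range 48, (∀ i, 0 ≤ vec chevF4 4 r i) → ∃ v ∈ lst, ∀ i, vec chevF4 4 r i = v i := by
  decide +kernel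

variable {Wy : Type*} [Group Wy] {cs : CoxeterSystem CoxeterMatrix.F₄ Wy}
    {h : IsCartan CoxeterMatrix.F₄ (cartanOf chevF4 4)}

theorem Rt.pos {x : Fin 4 → ℤ} (hx : Rt x) : x ∈ RGD.Pos cs h := by
  obtain ⟨⟨r, hr, e⟩, h0⟩ := hx
  exact ⟨(isRoot_iff Nodes.KindF.isType cs x).2 ⟨r, Finset.mem_range.1 hr, funext e⟩, h0⟩

theorem mem_lst {x : Fin 4 → ℤ} (hx : x ∈ RGD.Pos cs h) : x ∈ lst := by
  obtain ⟨r, hr, rfl⟩ := (isRoot_iff Nodes.KindF.isType cs x).1 hx.1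
  obtain ⟨v, hv, e⟩ := tab_all r (Finset.mem_range.2 hr) hx.2
  rw [show vec chevF4 4 r = v from funext e]
  exact hv

variable [Finite Wy]

theorem cpr_val {x y : Fin 4 → ℤ} (hy : Rt y) {c : ℤ} (h0 : qf (cartanOf chevF4 4) Nodes.KindF.d y y ≠ 0)
    (h1 : c * qf (cartanOf chevF4 4) Nodes.KindF.d y y = 2 * qf (cartanOf chevF4 4) Nodes.KindF.d x y) :
    cpr cs h x y = c :=
  mul_right_cancel₀ h0 ((cpr_mul_qf cs h hd x (Rt.pos (cs := cs) (h := h) hy).1).trans h1.symm)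

/-! ### The lift -/

variable {X : Type*} [Group X] {M : Type*} [Group M] [MulDistribMulAction X M] {W : Type*} [CommGroup W]
  [MulDistribMulAction X W] {K T : Subgroup X} {p : W →* M} {F : Type*} [Field F] {e : (Fin 4 → ℤ) → F → K}

/-- `e x 1` fixes `w` -/
def Fx (e : (Fin 4 → ℤ) → F → K) (w : W) (x : Fin 4 → ℤ) : Prop := ((e x 1 : K) : X) • w = w

/-- `U` fixes `m` -/
def FU (cs : CoxeterSystem CoxeterMatrix.F₄ Wy) (h : IsCartan CoxeterMatrix.F₄ (cartanOf chevF4 4))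
    (e : (Fin 4 → ℤ) → F → K) (m : M) : Prop := ∀ x ∈ RGD.Pos cs h, ((e x 1 : K) : X) • m = m

theorem comm_coe (a b : K) : ((⁅a, b⁆ : K) : X) = (a : X) * b * (a : X)⁻¹ * (b : X)⁻¹ := by
  rw [commutatorElement_def]; rfl

theorem C1.fix {x y z : Fin 4 → ℤ} (H : C1 x y z) (D : Data cs h e) (hW : WPart K T p) {w : W}
    (hU : FU cs h e (p w)) : Fx e w z := by
  obtain ⟨hx, hy, hz, n1, n2, e1, e2⟩ := H
  have h1 := D.comm1 x y (Rt.pos hx).1 (Rt.pos hy).1 (cpr_val hy n2 e1) (cpr_val hx n1 e2) 1 1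
  rw [show x + y = z from funext hz, mul_one] at h1
  unfold Fx
  rw [← h1, comm_coe]
  exact comm_fix hW (e x 1).2 (e y 1).2 (hU x (Rt.pos hx)) (hU y (Rt.pos hy))

theorem C2.mul {x y z z' : Fin 4 → ℤ} (H : C2 x y z z') (D : Data cs h e) (hW : WPart K T p) {w : W}
    (hU : FU cs h e (p w)) : (((e z 1 : K) : X) * ((e z' 1 : K) : X)) • w = w := by
  obtain ⟨hx, hy, hz, hz', n1, n2, e1, e2⟩ := H
  have h1 := D.comm2 x y (Rt.pos hx).1 (Rt.pos hy).1 (cpr_val hy n2 e1) (cpr_val hx n1 e2) 1 1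
  have e3 : x + (2 : ℤ) • y = z' := funext fun i => by
    rw [← hz' i]; rfl
  rw [show x + y = z from funext hz, e3, one_pow, mul_one] at h1
  rw [← Subgroup.coe_mul, ← h1, comm_coe]
  exact comm_fix hW (e x 1).2 (e y 1).2 (hU x (Rt.pos hx)) (hU y (Rt.pos hy))

theorem C2.fix_left {x y z z' : Fin 4 → ℤ} (H : C2 x y z z') (D : Data cs h e) (hW : WPart K T p) {w : W}
    (hU : FU cs h e (p w)) (h' : Fx e w z') : Fx e w z := by
  have h1 := H.mul D hW hU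
  rw [mul_smul, h'] at h1
  exact h1

theorem C2.fix_right {x y z z' : Fin 4 → ℤ} (H : C2 x y z z') (D : Data cs h e) (hW : WPart K T p) {w : W}
    (hU : FU cs h e (p w)) (h' : Fx e w z) : Fx e w z' := by
  have h1 := H.mul D hW hU
  unfold Fx at h' ⊢
  rw [mul_smul, ← eq_inv_smul_iff] at h1
  rw [h1, inv_smul_eq_iff, h']

theorem C3.fix {i : Fin 4} {x z : Fin 4 → ℤ} (H : C3 i x z) (D : Data cs h e) (hW : WPart K T p) {w : W}
    (hi : ((nel e (sr i) : K) : X) • p w = p w) (h' : Fx e w x) : Fx e w z := by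
  obtain ⟨hx, hz⟩ := H
  have h1 := D.refl i x (Rt.pos hx).1 1
  have e3 : rep cs h (cs.simple i) x = z := by
    rw [rep_simple_eq]
    exact funext hz
  rw [e3] at h1
  unfold Fx at h' ⊢
  rw [← h1]
  exact conj_fix hW (nel e (sr i)).2 (e x 1).2 hi h'

theorem sr_Rt : Rt (sr 0) ∧ Rt (sr 1) ∧ Rt (sr 2) ∧ Rt (sr 3) := by
  decide +kernel

/-- orthogonal simple roots: the root elements commute with `⟨X_0, X_{-0}⟩` -/
theorem comm_far (D : Data cs h e) {i : Fin 4} (hi : i = 2 ∨ i = 3) (ε : Fin 4 → ℤ) (hε : ε = sr 0 ∨ ε = -sr 0) :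
    e (sr i) 1 * e ε 1 = e ε 1 * e (sr i) 1 := by
  have hr0 : IsRoot cs h (sr 0) := isRoot_sr cs h 0
  have h0 : cpr cs h (sr i) (sr 0) = 0 := by
    refine cpr_val sr_Rt.1 (by decide +kernel) ?_
    rcases hi with rfl | rfl <;> decide +kernel
  rcases hε with rfl | rfl
  · exact D.comm_of_nonneg (isRoot_sr cs h i) hr0 h0.ge 1 1
  · refine D.comm_of_nonneg (isRoot_sr cs h i) hr0.neg ?_ 1 1
    rw [cpr_neg_right cs h _ hr0, h0, neg_zero]

/-- **All positive root elements fix the lift.** -/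
theorem pos_fix (D : Data cs h e) (hW : WPart K T p) {w : W} (hU : FU cs h e (p w))
    (h1 : ((nel e (sr 1) : K) : X) • p w = p w) (h2 : ((nel e (sr 2) : K) : X) • p w = p w)
    (hs : p w * (((nel e (sr 0) : K) : X) • p w) * (((e (sr 0) 1 * nel e (sr 0) : K) : X) • p w) = 1) :
    ∀ x ∈ RGD.Pos cs h, Fx e w x := by
  have hfar : ∀ i : Fin 4, i = 2 ∨ i = 3 → Fx e w (sr i) := by
    intro i hi
    have a1 := comm_far D hi (sr 0) (Or.inl rfl)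
    have a2 := comm_far D hi (-sr 0) (Or.inr rfl)
    have a3 : e (sr i) 1 * nel e (sr 0) = nel e (sr 0) * e (sr i) 1 := by
      rw [nel_def, ← mul_assoc, ← mul_assoc, a1, mul_assoc (e (sr 0) 1), a2, mul_assoc, mul_assoc, a1]
      simp only [mul_assoc]
    have a4 : e (sr i) 1 * (e (sr 0) 1 * nel e (sr 0)) = e (sr 0) 1 * nel e (sr 0) * e (sr i) 1 := by
      rw [← mul_assoc, a1, mul_assoc, a3, mul_assoc]
    exact panel_fix hW (e (sr i) 1).2 (nel e (sr 0)).2 (e (sr 0) 1 * nel e (sr 0)).2 (congrArg Subtype.val a3)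
      (congrArg Subtype.val a4) (hU _ ⟨isRoot_sr cs h i, sr_nonneg i⟩) hs
  have e2 : (sr 2 : Fin 4 → ℤ) = ![0, 0, 1, 0] := by decide
  have e3 : (sr 3 : Fin 4 → ℤ) = ![0, 0, 0, 1] := by decide
  have f0010 : Fx e w ![0, 0, 1, 0] := e2 ▸ hfar 2 (Or.inl rfl)
  have f0001 : Fx e w ![0, 0, 0, 1] := e3 ▸ hfar 3 (Or.inr rfl)
  obtain ⟨a0, a1, a2, a3, a4, a5, a6, a7, a8, a9, a10, a11, a12, a13, a14, a15⟩ := tab1
  obtain ⟨b0, b1, b2⟩ := tab2
  obtain ⟨c0, c1, c2⟩ := tab3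
  have f0011 := a0.fix D hW hU
  have f0211 := a1.fix D hW hU
  have f2211 := a2.fix D hW hU
  have f2432 := a3.fix D hW hU
  have f0221 := a4.fix D hW hU
  have f2221 := a5.fix D hW hU
  have f2431 := a6.fix D hW hU
  have f1100 := a7.fix D hW hU
  have f1210 := a8.fix D hW hU
  have f1211 := a9.fix D hW hU
  have f1321 := a10.fix D hW hU
  have f1110 := a11.fix D hW hU
  have f1111 := a12.fix D hW hU
  have f2321 := a13.fix D hW hU
  have f1221 := a14.fix D hW hU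
  have f2421 := a15.fix D hW hU
  have f0210 := c0.fix D hW h1 f0010
  have f0111 := b0.fix_left D hW hU f0221
  have f0110 := b1.fix_left D hW hU f0210
  have f2210 := b2.fix_right D hW hU f1110
  have f1000 := c1.fix D hW h1 f1100
  have f0100 := c2.fix D hW h2 f0110
  intro x hx
  have hx' := mem_lst hx
  simp only [lst, List.mem_cons, List.not_mem_nil, or_false] at hx'
  rcases hx' with rfl | rfl | rfl | rfl | rfl | rfl | rfl | rfl | rfl | rfl | rfl | rfl | rfl | rfl | rfl | rfl | rfl |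
    rfl | rfl | rfl | rfl | rfl | rfl | rfl <;> assumption

end Cfsg.Agent.Omega.FOne.Lift.FPos
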