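import Cfsg.Agent.Omega.FOne.Lift.Basic
import Cfsg.Agent.Omega.ML.Dual

/-!
# Full subgroups (OMEGA, the Lie(2) row with the W-part; helper650)

`H` acts on the elementary abelian group `M`, `v ∈ M`, `Q ≤ H` with `C_Q(v) = 1`.  `A ≤ Q` is *full* if
`|[M, A]| = |A|`; then `{(a v) v⁻¹ : a ∈ A} = [M, A]`.

* `Fu.sup` : the join of two full subgroups is full (no commutativity of `Q`);
* `exists_top` : there is a largest full subgroup `D`;
* `Fu.conj` : it is normalised by `N(Q)`;
* **`exists_comm`** : `P` normalises `Q`; `f ∈ [M, D]`: there is `a ∈ D` with `f = (a v) v⁻¹`, and every `l ∈ P` which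
  fixes `v` and `f` commutes with `a`;
* **`fu_of_pair`** : if `M` has an invariant pairing, an exact subgroup of `Q` is full;
* **`fix_of_full`** : a group `L` which fixes `v` and `f` fixes the lifts of `f`.
-/

set_option autoImplicit false
set_option linter.unusedSectionVars false

namespace Cfsg.Agent.Omega.FOne.Lift.Full

open Subgroup

variable {H : Type*} [Group H] {M : Type*} [Group M] [MulDistribMulAction H M]

/-- `[M, A]` -/
def br (M : Type*) [Group M] [MulDistribMulAction H M] (A : Subgroup H) : Subgroup M :=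
  closure {m | ∃ a ∈ A, ∃ w : M, m = (a • w) * w⁻¹}

theorem mem_br {A : Subgroup H} {a : H} (ha : a ∈ A) (w : M) : (a • w) * w⁻¹ ∈ br M A :=
  subset_closure ⟨a, ha, w, rfl⟩

/-- the elements of `H` which are trivial on `M / N` -/
def tr (N : Subgroup M) : Subgroup H where
  carrier := {h | ∀ w : M, (h • w) * w⁻¹ ∈ N}
  one_mem' := fun w => by rw [one_smul, mul_inv_cancel]; exact N.one_mem
  mul_mem' := fun {a b} ha hb w => by
    have h1 := mul_mem (ha (b • w)) (hb w)
    rw [mul_smul]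
    have e : a • b • w * w⁻¹ = a • b • w * (b • w)⁻¹ * (b • w * w⁻¹) := by group
    rw [e]
    exact h1
  inv_mem' := fun {a} ha w => by
    have h1 := N.inv_mem (ha (a⁻¹ • w))
    rw [smul_inv_smul, mul_inv_rev, inv_inv] at h1
    exact h1

theorem mem_tr {N : Subgroup M} {h : H} : h ∈ tr N ↔ ∀ w : M, (h • w) * w⁻¹ ∈ N := Iff.rfl

theorem br_le {A : Subgroup H} {N : Subgroup M} : br M A ≤ N ↔ A ≤ tr N := by
  unfold br
  rw [closure_le]
  constructor
  · intro h a ha w
    exact h ⟨a, ha, w, rfl⟩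
  · rintro h _ ⟨a, ha, w, rfl⟩
    exact h ha w

theorem br_mono {A B : Subgroup H} (h : A ≤ B) : br M A ≤ br M B := br_le.2 fun _ ha w => mem_br (h ha) w

theorem br_sup (A B : Subgroup H) : br M (A ⊔ B) = br M A ⊔ br M B := by
  refine le_antisymm (br_le.2 (sup_le ?_ ?_)) (sup_le (br_mono le_sup_left) (br_mono le_sup_right))
  · exact br_le.1 le_sup_left
  · exact br_le.1 le_sup_right

theorem br_bot : br M (⊥ : Subgroup H) = ⊥ := by
  rw [eq_bot_iff, br_le]
  intro a ha w
  rw [mem_bot.1 ha, one_smul, mul_inv_cancel]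
  exact one_mem _

theorem smul_mem_br {A B : Subgroup H} {g : H} (hg : ∀ a ∈ A, g * a * g⁻¹ ∈ B) {m : M} (hm : m ∈ br M A) :
    g • m ∈ br M B := by
  have h1 : br M A ≤ (br M B).comap (MulDistribMulAction.toMonoidHom M g) := by
    unfold br
    rw [closure_le]
    rintro _ ⟨a, ha, w, rfl⟩
    change g • (a • w * w⁻¹) ∈ br M B
    have h2 := mem_br (M := M) (hg a ha) (g • w)
    rw [mul_smul, mul_smul, inv_smul_smul] at h2
    rw [smul_mul', smul_inv']
    exact h2
  exact h1 hm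

theorem card_br_conj [Finite M] (A : Subgroup H) (g : H) :
    Nat.card (br M (A.map (MulAut.conj g).toMonoidHom)) = Nat.card (br M A) := by
  have key : ∀ (B C : Subgroup H) (g : H), (∀ b ∈ B, g * b * g⁻¹ ∈ C) → Nat.card (br M B) ≤ Nat.card (br M C) := by
    intro B C g hg
    refine Nat.card_le_card_of_injective (fun m : br M B => (⟨g • (m : M), smul_mem_br hg m.2⟩ : br M C)) ?_
    intro x y hxy
    have h1 := congrArg (Subtype.val) hxy
    exact Subtype.ext (MulAction.injective g h1)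
  refine le_antisymm (key _ _ g⁻¹ ?_) (key _ _ g ?_)
  · rintro _ ⟨a, ha, rfl⟩
    change g⁻¹ * (g * a * g⁻¹) * g⁻¹⁻¹ ∈ A
    have e : g⁻¹ * (g * a * g⁻¹) * g⁻¹⁻¹ = a := by group
    rw [e]
    exact ha
  · exact fun a ha => ⟨a, ha, rfl⟩

/-- full subgroups -/
structure Fu (M : Type*) [Group M] [MulDistribMulAction H M] (Q A : Subgroup H) : Prop where
  le : A ≤ Q
  card : Nat.card (br M A) = Nat.card A

variable {Q : Subgroup H} {v : M}

section

variable [Finite H] [Finite M] (hv : ∀ q ∈ Q, q • v = v → q = 1)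
include hv

theorem inj {a b : H} (ha : a ∈ Q) (hb : b ∈ Q) (h : a • v = b • v) : a = b := by
  have h1 := hv (b⁻¹ * a) (mul_mem (InvMemClass.inv_mem hb) ha) (by rw [mul_smul, h, inv_smul_smul])
  exact (inv_mul_eq_one.1 h1).symm

theorem card_le {A : Subgroup H} (hA : A ≤ Q) : Nat.card A ≤ Nat.card (br M A) := by
  refine Nat.card_le_card_of_injective (fun a : A => (⟨((a : H) • v) * v⁻¹, mem_br a.2 v⟩ : br M A)) ?_
  intro x y hxy
  have h1 := mul_right_cancel (congrArg (Subtype.val) hxy)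
  exact Subtype.ext (inj hv (hA x.2) (hA y.2) h1)

theorem Fu.surj {A : Subgroup H} (hA : Fu M Q A) {m : M} (hm : m ∈ br M A) : ∃ a ∈ A, a • v = m * v := by
  have h1 : Function.Injective (fun a : A => (⟨((a : H) • v) * v⁻¹, mem_br a.2 v⟩ : br M A)) := by
    intro x y hxy
    have h1 := mul_right_cancel (congrArg (Subtype.val) hxy)
    exact Subtype.ext (inj hv (hA.le x.2) (hA.le y.2) h1)
  have h2 := (Nat.bijective_iff_injective_and_card _).2 ⟨h1, hA.card.symm⟩
  obtain ⟨a, ha⟩ := h2.2 ⟨m, hm⟩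
  refine ⟨a, a.2, ?_⟩
  have h3 := congrArg Subtype.val ha
  exact mul_inv_eq_iff_eq_mul.1 h3

/-- **The join of two full subgroups is full.** -/
theorem Fu.sup (hcomm : ∀ x y : M, x * y = y * x) {A B : Subgroup H} (hA : Fu M Q A) (hB : Fu M Q B) :
    Fu M Q (A ⊔ B) := by
  have hle : A ⊔ B ≤ Q := sup_le hA.le hB.le
  refine ⟨hle, le_antisymm ?_ (card_le hv hle)⟩
  have hN : (br M B).Normal := ⟨fun n hn g => by
    rw [hcomm g n, mul_assoc, mul_inv_cancel, mul_one]; exact hn⟩
  -- the intersection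
  have h1 : Nat.card (br M A ⊓ br M B : Subgroup M) ≤ Nat.card (A ⊓ B : Subgroup H) := by
    have key : ∀ m : (br M A ⊓ br M B : Subgroup M), ∃ a : (A ⊓ B : Subgroup H), (a : H) • v = (m : M) * v := by
      rintro ⟨m, hm⟩
      obtain ⟨a, ha, e⟩ := hA.surj hv (mem_inf.1 hm).1
      obtain ⟨b, hb, e'⟩ := hB.surj hv (mem_inf.1 hm).2
      have h2 := inj hv (hA.le ha) (hB.le hb) (e.trans e'.symm)
      subst h2
      exact ⟨⟨a, ha, hb⟩, e⟩
    choose F hF using key
    refine Nat.card_le_card_of_injective F ?_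
    intro x y hxy
    have h2 := hF x
    rw [hxy, hF y] at h2
    exact Subtype.ext (mul_right_cancel h2).symm
  -- `|[M,A] [M,B]|`
  have e1 : Nat.card (br M B) * (br M B).relIndex (br M A ⊔ br M B) = Nat.card (br M A ⊔ br M B : Subgroup M) := by
    rw [← relIndex_bot_left, ← relIndex_bot_left (br M A ⊔ br M B)]
    exact relIndex_mul_relIndex _ _ _ bot_le le_sup_right
  have e2 : (br M B).relIndex (br M A ⊔ br M B) = (br M B).relIndex (br M A) := relIndex_sup_right _ _
  have e3 : Nat.card (br M A ⊓ br M B : Subgroup M) * (br M A ⊓ br M B).relIndex (br M A) = Nat.card (br M A) := by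
    rw [← relIndex_bot_left, ← relIndex_bot_left (br M A)]
    exact relIndex_mul_relIndex _ _ _ bot_le inf_le_left
  have e4 : (br M A ⊓ br M B).relIndex (br M A) = (br M B).relIndex (br M A) := by
    rw [inf_comm, inf_relIndex_right]
  have e5 : Nat.card (A ⊓ B : Subgroup H) * (A ⊓ B).relIndex A = Nat.card A := by
    rw [← relIndex_bot_left, ← relIndex_bot_left A]
    exact relIndex_mul_relIndex _ _ _ bot_le inf_le_left
  have e6 : (A ⊓ B).relIndex A = B.relIndex A := by
    rw [inf_comm, inf_relIndex_right]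
  have e7 : Nat.card B * B.relIndex (A ⊔ B) = Nat.card (A ⊔ B : Subgroup H) := by
    rw [← relIndex_bot_left, ← relIndex_bot_left (A ⊔ B)]
    exact relIndex_mul_relIndex _ _ _ bot_le le_sup_right
  have e8 : B.relIndex A ≤ B.relIndex (A ⊔ B) := by
    exact relIndex_le_of_le_right le_sup_left (index_ne_zero_of_finite : (B.subgroupOf (A ⊔ B)).index ≠ 0)
  rw [e4] at e3
  rw [e2] at e1
  rw [e6] at e5
  rw [br_sup, ← e1, ← e7, hB.card]
  refine Nat.mul_le_mul le_rfl (le_trans ?_ e8)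
  -- `|A| = |A ⊓ B| r = |N| r'`, `|N| ≤ |A ⊓ B|`
  have h3 : (0 : ℕ) < Nat.card (A ⊓ B : Subgroup H) := Nat.card_pos
  have h4 : (0 : ℕ) < Nat.card (br M A ⊓ br M B : Subgroup M) := Nat.card_pos
  -- the other inequality of the intersections
  have h5 : Nat.card (A ⊓ B : Subgroup H) ≤ Nat.card (br M A ⊓ br M B : Subgroup M) :=
    (card_le hv (inf_le_left.trans hA.le)).trans (Subgroup.card_le_of_le (le_inf (br_mono inf_le_left)
      (br_mono inf_le_right)))
  have h6 := le_antisymm h1 h5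
  rw [hA.card, ← e5, h6] at e3
  exact (Nat.eq_of_mul_eq_mul_left h3 e3).le

theorem fu_bot : Fu M Q ⊥ := ⟨bot_le, by rw [br_bot, card_bot, card_bot]⟩

/-- **The largest full subgroup.** -/
theorem exists_top (hcomm : ∀ x y : M, x * y = y * x) : ∃ D : Subgroup H, Fu M Q D ∧ ∀ A, Fu M Q A → A ≤ D := by
  classical
  obtain ⟨D, hD, hmax⟩ := Set.exists_max_image {A : Subgroup H | Fu M Q A} (fun A => Nat.card A) (Set.toFinite _)
    ⟨⊥, fu_bot hv⟩
  refine ⟨D, hD, fun A hA => ?_⟩
  have h1 := hmax _ (hD.sup hv hcomm hA)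
  have h2 : D = D ⊔ A := eq_of_le_of_card_ge le_sup_left h1
  rw [h2]
  exact le_sup_right

omit hv in
theorem Fu.conj {A : Subgroup H} (hA : Fu M Q A) {g : H} (hg : ∀ q ∈ Q, g * q * g⁻¹ ∈ Q) :
    Fu M Q (A.map (MulAut.conj g).toMonoidHom) where
  le := by
    rintro _ ⟨a, ha, rfl⟩
    exact hg a (hA.le ha)
  card := by
    rw [card_br_conj, hA.card]
    exact (card_map_of_injective (MulAut.conj g).injective).symm

/-- **The commuting element.** -/
theorem exists_comm (hcomm : ∀ x y : M, x * y = y * x) {B : Subgroup H} (hB : Fu M Q B) :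
    ∃ D : Subgroup H, B ≤ D ∧ D ≤ Q ∧ (∀ g, (∀ q ∈ Q, g * q * g⁻¹ ∈ Q) → ∀ d ∈ D, g * d * g⁻¹ ∈ D) ∧
      ∀ f ∈ br M D, ∃ a ∈ D, (a • v) * v⁻¹ = f ∧
        ∀ l, (∀ q ∈ Q, l * q * l⁻¹ ∈ Q) → l • v = v → l • f = f → l * a = a * l := by
  obtain ⟨D, hD, htop⟩ := exists_top hv hcomm
  have hn : ∀ g, (∀ q ∈ Q, g * q * g⁻¹ ∈ Q) → ∀ d ∈ D, g * d * g⁻¹ ∈ D := by
    intro g hg d hd
    exact htop _ (hD.conj hg) ⟨d, hd, rfl⟩
  refine ⟨D, htop _ hB, hD.le, hn, ?_⟩
  intro f hf
  obtain ⟨a, ha, e⟩ := hD.surj hv hf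
  refine ⟨a, ha, mul_inv_eq_iff_eq_mul.2 e, ?_⟩
  intro l hl hlv hlf
  have h1 : (l * a * l⁻¹) • v = a • v := by
    have h2 : l⁻¹ • v = v := by rw [inv_smul_eq_iff, hlv]
    rw [mul_smul, mul_smul, h2, e, smul_mul', hlf, hlv]
  have h3 := inj hv (hl a (hD.le ha)) (hD.le ha) h1
  exact mul_inv_eq_iff_eq_mul.1 h3

/-- an exact subgroup is full if `M` is self-dual -/
theorem fu_of_pair (b : M → M → ℤˣ) (hl : ∀ m m' x, b (m * m') x = b m x * b m' x)
    (hr : ∀ m x x', b m (x * x') = b m x * b m x') (nd : ∀ x, (∀ m, b m x = 1) → x = 1) {A : Subgroup H}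
    (inv : ∀ a ∈ A, ∀ m x, b (a • m) (a • x) = b m x) (hA : A ≤ Q)
    (hex : (Cfsg.Agent.ClassTwoFusion.Quad.cv M (A : Set H)).index = Nat.card A) : Fu M Q A := by
  refine ⟨hA, le_antisymm ?_ (card_le hv hA)⟩
  rw [← hex]
  have hb1 : ∀ x, b 1 x = 1 := by
    intro x
    have h1 := hl 1 1 x
    rw [one_mul] at h1
    exact (mul_eq_left.1 h1.symm)
  have hbi : ∀ m x, b m x⁻¹ = (b m x)⁻¹ := by
    intro m x
    have h1 := hr m x x⁻¹
    have h2 := hr m 1 1
    rw [one_mul] at h2
    rw [mul_inv_cancel, mul_eq_left.1 h2.symm] at h1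
    exact (inv_eq_of_mul_eq_one_right h1.symm).symm
  refine ML.Dual.card_le_index _ (fun x : br M A => (MonoidHom.mk' (fun m => b m x) fun m m' => hl m m' x)) ?_ ?_
  · intro x y hxy
    have h1 : (x : M) * (y : M)⁻¹ = 1 := by
      refine nd _ fun m => ?_
      rw [hr, hbi]
      have h2 := DFunLike.congr_fun hxy m
      change b m x = b m y at h2
      rw [h2, mul_inv_cancel]
    exact Subtype.ext (mul_inv_eq_one.1 h1)
  · rintro ⟨x, hx⟩ c hc
    change b c x = 1
    have h1 : br M A ≤ ({ carrier := {x | b c x = 1}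
                          one_mem' := by
                            have h2 := hr c 1 1
                            rw [one_mul] at h2
                            exact mul_eq_left.1 h2.symm
                          mul_mem' := fun {x y} (hx : b c x = 1) (hy : b c y = 1) => by
                            change b c (x * y) = 1
                            rw [hr, hx, hy, one_mul]
                          inv_mem' := fun {x} (hx : b c x = 1) => by
                            change b c x⁻¹ = 1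
                            rw [hbi, hx, inv_one] } : Subgroup M) := by
      unfold br
      rw [closure_le]
      rintro _ ⟨a, ha, w, rfl⟩
      change b c (a • w * w⁻¹) = 1
      have h2 : a • c = c := hc a ha
      have h3 := inv a ha c w
      rw [h2] at h3
      rw [hr, hbi, h3, mul_inv_cancel]
    exact h1 hx

end

section lift

open Cfsg.Agent.Omega.ML.Ex

variable {W : Type*} [CommGroup W] [MulDistribMulAction H W] {K T : Subgroup H} {p : W →* M}

/-- **The subgroups fixing `v` and `f` fix the lifts of `f`.** -/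
theorem fix_of_full [Finite H] [Finite M] (h : WPart K T p) (hcomm : ∀ x y : M, x * y = y * x)
    (hv : ∀ q ∈ Q, q • v = v → q = 1) (hQK : Q ≤ K) {B : Subgroup H} (hB : Fu M Q B) (hB1 : B ≠ ⊥)
    {P : Subgroup H} (hP : ∀ g ∈ P, ∀ q ∈ Q, g * q * g⁻¹ ∈ Q) {f : M}
    (hf : ∀ N : Subgroup M, N ≠ ⊥ → (∀ g ∈ P, ∀ m ∈ N, g • m ∈ N) → f ∈ N) {L : Subgroup H} (hLP : L ≤ P) (hLK : L ≤ K)
    (hLv : ∀ l ∈ L, l • v = v) (hLf : ∀ l ∈ L, l • f = f) : f ∈ FLs p L := by
  obtain ⟨D, hBD, hDQ, hn, hD⟩ := exists_comm hv hcomm hB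
  have hne : br M D ≠ ⊥ := by
    intro h1
    apply hB1
    rw [eq_bot_iff]
    intro a ha
    have h2 := mem_br (M := M) (hBD ha) v
    rw [h1, mem_bot, mul_inv_eq_one] at h2
    exact mem_bot.2 (hv a (hDQ (hBD ha)) h2)
  obtain ⟨a, ha, e, hc⟩ := hD f (hf (br M D) hne fun g hg m hm => smul_mem_br (fun d hd => hn g (hP g hg) d hd) hm)
  rw [mem_FLs_iff h hLK]
  intro l hl
  rw [← e]
  exact opp_mem' h (hQK (hDQ ha)) (hc l (hP l (hLP hl)) (hLv l hl) (hLf l hl)) (hLv l hl)

end lift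

end Cfsg.Agent.Omega.FOne.Lift.Full
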