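import Cfsg.Agent.Omega.FOne.Lift.Basic

/-!
# The panel fact for the W-part (OMEGA, (6''), #23144; helper115)

`p : W → M` as in `WPart K T p`, `w : W`, elements of `K` fixing `p w`:

* `comm_fix` : `⁅a, b⁆` fixes `w`;
* `conj_fix` : `a w = w` implies `(g a g⁻¹) w = w`;
* **`panel_fix`** : `x` commutes with `g`, `g'` and `p w * g (p w) * g' (p w) = 1` : `x w = w`.
-/

set_option autoImplicit false
set_option linter.unusedSectionVars false

namespace Cfsg.Agent.Omega.FOne.Lift

open Subgroup Cfsg.Agent.Omega.ML.Ex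

variable {X : Type*} [Group X] {M : Type*} [Group M] [MulDistribMulAction X M] {W : Type*} [CommGroup W]
  [MulDistribMulAction X W] {K T : Subgroup X} {p : W →* M}

section

variable (h : WPart K T p)
include h

/-- the defect of an element fixing `p w` -/
theorem exists_def {x : X} {w : W} (hw : x • p w = p w) : ∃ c : W, p c = 1 ∧ x • w = c * w :=
  ⟨(x • w) * w⁻¹, by rw [map_mul, map_inv, h.eqv, hw, mul_inv_cancel], by group⟩

theorem smul_c {x : X} (hx : x ∈ K) {c : W} (hc : p c = 1) : x • c = c := (h.ker c).1 hc x hx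

theorem smul_cm {x : X} (hx : x ∈ K) {c : W} (hc : p c = 1) (v : W) : x • (c * v) = c * (x • v) := by
  rw [smul_mul', smul_c h hx hc]

theorem inv_fix' {x : X} {m : M} (hm : x • m = m) : x⁻¹ • m = m := by
  rw [inv_smul_eq_iff, hm]

/-- conjugates -/
theorem conj_fix {g a : X} (hg : g ∈ K) (ha : a ∈ K) {w : W} (hgw : g • p w = p w) (haw : a • w = w) :
    (g * a * g⁻¹) • w = w := by
  obtain ⟨c, hc, e⟩ := exists_def h (inv_fix' h hgw)
  rw [mul_smul, mul_smul, e, smul_mul', smul_c h ha hc, haw, smul_mul', smul_c h hg hc]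
  have h1 : g • w = c * w := by
    have h2 : w = g • (c * w) := by rw [← e, smul_inv_smul]
    rw [smul_mul', smul_c h hg hc] at h2
    have h3 : g • w = c⁻¹ * w := by
      rw [eq_inv_mul_iff_mul_eq, ← h2]
    rw [h3, inv_eq_of_mul_eq_one_left (h.sq c)]
  rw [h1, ← mul_assoc, h.sq, one_mul]

/-- commutators -/
theorem comm_fix {a b : X} (ha : a ∈ K) (hb : b ∈ K) {w : W} (haw : a • p w = p w) (hbw : b • p w = p w) :
    (a * b * a⁻¹ * b⁻¹) • w = w := by
  obtain ⟨c, hc, e⟩ := exists_def h (inv_fix' h haw)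
  obtain ⟨d, hd, f⟩ := exists_def h (inv_fix' h hbw)
  have ea : a • w = c * w := by
    have h2 : w = a • (c * w) := by rw [← e, smul_inv_smul]
    rw [smul_mul', smul_c h ha hc] at h2
    have h3 : a • w = c⁻¹ * w := by
      rw [eq_inv_mul_iff_mul_eq, ← h2]
    rw [h3, inv_eq_of_mul_eq_one_left (h.sq c)]
  have fb : b • w = d * w := by
    have h2 : w = b • (d * w) := by rw [← f, smul_inv_smul]
    rw [smul_mul', smul_c h hb hd] at h2
    have h3 : b • w = d⁻¹ * w := by
      rw [eq_inv_mul_iff_mul_eq, ← h2]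
    rw [h3, inv_eq_of_mul_eq_one_left (h.sq d)]
  rw [mul_smul, mul_smul, mul_smul, f, smul_cm h (K.inv_mem ha) hd, e, smul_cm h hb hd, smul_cm h hb hc, fb,
    smul_cm h ha hd, smul_cm h ha hc, smul_cm h ha hd, ea]
  calc d * (c * (d * (c * w))) = (d * d) * ((c * c) * w) := by
        rw [mul_assoc d d, mul_assoc c c, ← mul_assoc c d, mul_comm c d, mul_assoc d c]
    _ = w := by rw [h.sq, h.sq, one_mul, one_mul]

/-- **The panel fact.** -/
theorem panel_fix {x g g' : X} (hx : x ∈ K) (hg : g ∈ K) (hg' : g' ∈ K) (hxg : x * g = g * x)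
    (hxg' : x * g' = g' * x) {w : W} (hxw : x • p w = p w) (hs : p w * (g • p w) * (g' • p w) = 1) :
    x • w = w := by
  obtain ⟨c, hc, e⟩ := exists_def h hxw
  have h1 : p (w * (g • w) * (g' • w)) = 1 := by rw [map_mul, map_mul, h.eqv, h.eqv, hs]
  have h2 := smul_c h hx h1
  have h3 : ∀ y : X, y ∈ K → x * y = y * x → x • (y • w) = c * (y • w) := by
    intro y hy hxy
    rw [← mul_smul, hxy, mul_smul, e, smul_mul', smul_c h hy hc]
  rw [smul_mul', smul_mul', e, h3 g hg hxg, h3 g' hg' hxg'] at h2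
  have h4 : c * w * (c * g • w) * (c * g' • w) = (c * c) * (c * (w * g • w * g' • w)) := by
    calc c * w * (c * g • w) * (c * g' • w) = (c * w) * (c * (g • w)) * (c * (g' • w)) := rfl
      _ = (c * c) * (c * (w * g • w * g' • w)) := by
        rw [mul_mul_mul_comm c w c (g • w), mul_mul_mul_comm (c * c) (w * g • w) c (g' • w), mul_assoc (c * c) c]
  rw [h4, h.sq, one_mul] at h2
  have h5 : c = 1 := mul_eq_right.1 h2
  rw [e, h5, one_mul]

end

end Cfsg.Agent.Omega.FOne.Lift
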