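import Cfsg.Agent.Omega.FOne.Lift.SdIso

/-!
# Self-duality of simple modules for groups with a root group datum (helper650)

`R : RGD cs h p T n X`, `ρ` simple in characteristic `p`, `C = V^U`, `w` over the longest element.

* `OppW R w σ` : `w` exchanges `X_i` and `X_{-σ i}` and `n_i⁻¹`, `n_{σ i}` modulo `T`; `exists_oppW`;
* `Zi ρ i` : `T_i` kills `V^U`;  `Zi_dual` : `Zi (dualRep ρ) i ↔ Zi ρ (σ i)`;
* **`exists_form`** : a nonzero form `β` on `C` with `β (t c) c' = β c (w⁻¹ t⁻¹ w c')` and `Zi ρ i ↔ Zi ρ (σ i)` give a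
  nondegenerate invariant form on `V`;
* `exists_form_of_triv` : the case where `T` is trivial on `C`.
-/

set_option autoImplicit false
set_option linter.unusedSectionVars false
set_option linter.style.haveILetI false

namespace Cfsg.Agent.Omega.FOne.Lift.Sd

open CoxeterSystem Cfsg.Agent.ChevalleyStructure.CoxeterGeom Cfsg.Agent.Tits.Roots Cfsg.Agent.Tits.Core
  Cfsg.Agent.Tits.Exchange Cfsg.Agent.Nodes.Reps Cfsg.Agent.Nodes.BNOf Cfsg.Agent.Nodes.StabComb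
  Cfsg.Agent.Nodes.Bruhat Cfsg.Agent.Nodes.OppDec Cfsg.Agent.Nodes.LeviDec Cfsg.Agent.KFacts.RgdOpp
  Cfsg.Agent.Omega.CR

variable {I W Y : Type*} [Fintype I] [DecidableEq I] [Group W] [Group Y] {M : CoxeterMatrix I}
  {cs : CoxeterSystem M W} {A : I → I → ℤ} {h : IsCartan M A} {p : ℕ} {T : Subgroup Y} {n : I → Y}
  {X : (I → ℤ) → Subgroup Y}

variable {k V : Type*} [Field k] [AddCommGroup V] [Module k V]

/-- `w` exchanges `U` and `U⁻`; `σ` is the opposition on the nodes -/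
structure OppW (cs : CoxeterSystem M W) (h : IsCartan M A) (T : Subgroup Y) (n : I → Y) (X : (I → ℤ) → Subgroup Y)
    (w : Y) (σ : I → I) : Prop where
  T_le : ∀ t ∈ T, w⁻¹ * t * w ∈ T
  U_le : ∀ u ∈ UN cs h X, w⁻¹ * u * w ∈ RGD.Sup X (RGD.Pos cs h)
  U_ge : ∀ u ∈ RGD.Sup X (RGD.Pos cs h), w * u * w⁻¹ ∈ UN cs h X
  Xi : ∀ i, (X (sr i)).map (MulAut.conj w⁻¹).toMonoidHom = X (-sr (σ i))
  ni : ∀ i, ∃ t ∈ T, w⁻¹ * (n i)⁻¹ * w = n (σ i) * t

section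

variable (R : RGD cs h p T n X) [Finite Y] [Finite W] [Fact p.Prime] [CharP k p]
  (ρ : Y →* Module.End k V)

/-- `T_i` kills `V^U` -/
def Zi (cs : CoxeterSystem M W) (h : IsCartan M A) (n : I → Y) (X : (I → ℤ) → Subgroup Y)
    (ρ : Y →* Module.End k V) (i : I) : Prop := ∀ v ∈ fx ρ (RGD.Sup X (RGD.Pos cs h)), Ti n X ρ i v = 0

variable {w : Y} {σ : I → I} (O : OppW cs h T n X w σ)
include R O

/-- `ρ w` maps `V^U` onto `V^{U⁻}` -/
theorem w_mem {c : V} (hc : c ∈ fx ρ (RGD.Sup X (RGD.Pos cs h))) : ρ w c ∈ fx ρ (UN cs h X) := by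
  intro u hu
  have h1 := hc _ (O.U_le u hu)
  have e : u * w = w * (w⁻¹ * u * w) := by group
  rw [← rho_mul, e, rho_mul, h1]

theorem w_mem' {c : V} (hc : c ∈ fx ρ (UN cs h X)) : ρ w⁻¹ c ∈ fx ρ (RGD.Sup X (RGD.Pos cs h)) := by
  intro u hu
  have h1 := hc _ (O.U_ge u hu)
  have e : u * w⁻¹ = w⁻¹ * (w * u * w⁻¹) := by group
  rw [← rho_mul, e, rho_mul, h1]

/-- the transpose of `T_i` -/
theorem Ti_dual (i : I) : ∃ t ∈ T, ∀ (φ : Module.Dual k V) (c : V),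
    Ti n X (dualRep ρ) i φ (ρ w c) = φ (ρ w (Ti n X ρ (σ i) (ρ t c))) := by
  classical
  obtain ⟨t, ht, e⟩ := O.ni i
  refine ⟨t, ht, fun φ c => ?_⟩
  letI := Fintype.ofFinite (X (sr i))
  have h1 : Ti n X (dualRep ρ) i φ (ρ w c) = φ (ρ (n i)⁻¹ (sg ρ (X (sr i)) (ρ w c))) := by
    rw [Ti_apply, sg_def, sg_def, map_sum, map_sum, LinearMap.sum_apply]
    refine Fintype.sum_equiv (Equiv.inv (X (sr i))) _ _ fun x => ?_
    rw [dualRep_apply, dualRep_apply]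
    rfl
  have h2 : sg ρ (X (sr i)) (ρ w c) = ρ w (sg ρ (X (-sr (σ i))) c) := by
    have h3 := rho_sg ρ (X (sr i)) w⁻¹ (ρ w c)
    rw [O.Xi, rho_inv_rho] at h3
    rw [← h3, rho_rho_inv]
  have h3 : ρ (n i)⁻¹ (ρ w (sg ρ (X (-sr (σ i))) c)) = ρ w (Ti n X ρ (σ i) (ρ t c)) := by
    have e1 : (n i)⁻¹ * w = w * (n (σ i) * t) := by rw [← e]; group
    rw [← rho_mul, e1, rho_mul]
    congr 1
    have h4 := rho_sg ρ (X (-sr (σ i))) (n (σ i) * t) c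
    have h5 : (X (-sr (σ i))).map (MulAut.conj (n (σ i) * t)).toMonoidHom = X (sr (σ i)) := by
      have h6 := R.conj (σ i) (-sr (σ i)) (isRoot_sr cs h (σ i)).neg
      rw [map_neg, rep_simple_sr, neg_neg] at h6
      have h7 := R.tor (-sr (σ i)) (isRoot_sr cs h (σ i)).neg t ht
      have h8 : (MulAut.conj (n (σ i) * t)).toMonoidHom =
          ((MulAut.conj (n (σ i))).toMonoidHom).comp (MulAut.conj t).toMonoidHom := by
        rw [map_mul]; rfl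
      rw [h8, ← Subgroup.map_map]
      exact (congrArg (cj (n (σ i))) h7).trans h6
    rw [h5] at h4
    rw [h4, Ti_apply, ← rho_mul]
  rw [h1, h2, h3]

variable [FiniteDimensional k V] [Nontrivial V]
  (hirr : ∀ L : Submodule k V, Ivt ρ (GG cs h T X) L → L = ⊥ ∨ L = ⊤)
include hirr

omit O in
/-- the opposite datum -/
theorem hirr_opp : ∀ L : Submodule k V, Ivt ρ (GG cs h T (fun x => X (-x))) L → L = ⊥ ∨ L = ⊤ := by
  rw [GG_opp]
  exact hirr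

omit O in
/-- a `U`-fixed functional which is zero on `V^{U⁻}` is zero -/
theorem eq_zero_of_opp {φ : Module.Dual k V} (hφ : φ ∈ fx (dualRep ρ) (RGD.Sup X (RGD.Pos cs h)))
    (h0 : ∀ v ∈ fx ρ (UN cs h X), φ v = 0) : φ = 0 := by
  refine eq_zero_of_fx (opp R) ρ (hirr_opp R ρ hirr) ?_ ?_
  · rw [UN_opp]; exact hφ
  · rw [U_opp]; exact h0

theorem Zi_dual (i : I) : Zi cs h n X (dualRep ρ) i ↔ Zi cs h n X ρ (σ i) := by
  obtain ⟨t, ht, e⟩ := Ti_dual R ρ O i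
  have hT : Ivt ρ T (fx ρ (RGD.Sup X (RGD.Pos cs h))) := (simp_fx R ρ hirr).inv
  constructor
  · intro h0 c hc
    by_contra hne
    -- apply it to `t⁻¹ c`
    have h1 : Ti n X ρ (σ i) (ρ t (ρ t⁻¹ c)) ≠ 0 := by rwa [rho_rho_inv]
    have h2 : ρ w (Ti n X ρ (σ i) (ρ t (ρ t⁻¹ c))) ∈ fx ρ (UN cs h X) :=
      w_mem R ρ O (Ti_fix R ρ (by rw [rho_rho_inv]; exact hc) (σ i))
    obtain ⟨φ, hφ, hφ0⟩ := exists_pair (opp R) ρ (hirr_opp R ρ hirr) (by rw [U_opp]; exact h2)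
      (rho_ne_zero ρ w h1)
    rw [UN_opp] at hφ
    apply hφ0
    rw [← e φ (ρ t⁻¹ c), h0 φ hφ, LinearMap.zero_apply]
  · intro h0 φ hφ
    refine eq_zero_of_opp R ρ hirr (Ti_fix R (dualRep ρ) hφ i) fun v hv => ?_
    have h1 : v = ρ w (ρ w⁻¹ v) := (rho_rho_inv ρ w v).symm
    rw [h1, e φ (ρ w⁻¹ v), h0 _ (hT t ht _ (w_mem' R ρ O hv)), map_zero, map_zero]

/-- **An invariant form.** -/
theorem exists_form (hZ : ∀ i, Zi cs h n X ρ i ↔ Zi cs h n X ρ (σ i))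
    (β : fx ρ (RGD.Sup X (RGD.Pos cs h)) →ₗ[k] fx ρ (RGD.Sup X (RGD.Pos cs h)) →ₗ[k] k) (hβ0 : β ≠ 0)
    (hβ : ∀ t ∈ T, ∀ (c tc c' tc' : fx ρ (RGD.Sup X (RGD.Pos cs h))), (tc : V) = ρ t c →
      (tc' : V) = ρ (w⁻¹ * t⁻¹ * w) c' → β tc c' = β c tc') :
    ∃ b : LinearMap.BilinForm k V, (∀ g ∈ GG cs h T X, ∀ u v, b (ρ g u) (ρ g v) = b u v) ∧
      (∀ u, (∀ v, b u v = 0) → u = 0) ∧ ∀ v, (∀ u, b u v = 0) → v = 0 := by
  -- the isomorphism `V^U → V^{U⁻}`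
  have hTC : Ivt ρ T (fx ρ (RGD.Sup X (RGD.Pos cs h))) := (simp_fx R ρ hirr).inv
  have hopp : ∀ v ∈ fx ρ (RGD.Sup (fun x => X (-x)) (RGD.Pos cs h)), v ∈ fx ρ (UN cs h X) := fun v hv b hb =>
    hv b (by rw [U_opp]; exact hb)
  have hopp' : ∀ v ∈ fx ρ (UN cs h X), v ∈ fx ρ (RGD.Sup (fun x => X (-x)) (RGD.Pos cs h)) := fun v hv b hb =>
    hv b (by rw [U_opp] at hb; exact hb)
  have key : ∀ c : fx ρ (RGD.Sup X (RGD.Pos cs h)), ∃ φ : fx (dualRep ρ) (RGD.Sup X (RGD.Pos cs h)), ∀ c' : fx ρ (RGD.Sup X (RGD.Pos cs h)),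
      (φ : Module.Dual k V) (ρ w c') = β c c' := by
    intro c
    -- a functional on `V^{U⁻}`
    let ψ : fx ρ (RGD.Sup (fun x => X (-x)) (RGD.Pos cs h)) →ₗ[k] k :=
      { toFun := fun v => β c ⟨ρ w⁻¹ v, w_mem' R ρ O (hopp v v.2)⟩
        map_add' := fun u v => by
          rw [← map_add]
          congr 1
          exact Subtype.ext (map_add _ _ _)
        map_smul' := fun a v => by
          rw [RingHom.id_apply, ← map_smul]
          congr 1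
          exact Subtype.ext (map_smul _ _ _) }
    obtain ⟨φ, hφ, h1⟩ := pair_surj (opp R) ρ (hirr_opp R ρ hirr) ψ
    rw [UN_opp] at hφ
    refine ⟨⟨φ, hφ⟩, fun c' => ?_⟩
    have h2 := h1 ⟨ρ w c', hopp' _ (w_mem R ρ O c'.2)⟩
    change φ (ρ w c') = _
    rw [show φ (ρ w c') = ψ ⟨ρ w c', _⟩ from h2]
    change β c _ = β c c'
    congr 1
    exact Subtype.ext (rho_inv_rho ρ w c')
  choose τ₀ hτ₀ using key
  have uniq : ∀ φ φ' : fx (dualRep ρ) (RGD.Sup X (RGD.Pos cs h)),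
      (∀ c' : fx ρ (RGD.Sup X (RGD.Pos cs h)), (φ : Module.Dual k V) (ρ w c') = (φ' : Module.Dual k V) (ρ w c')) → φ = φ' := by
    intro φ φ' h1
    apply Subtype.ext
    rw [← sub_eq_zero]
    refine eq_zero_of_opp R ρ hirr (Submodule.sub_mem _ φ.2 φ'.2) fun v hv => ?_
    have h2 := h1 ⟨ρ w⁻¹ v, w_mem' R ρ O hv⟩
    rw [LinearMap.sub_apply, sub_eq_zero]
    change (φ : Module.Dual k V) (ρ w (ρ w⁻¹ v)) = (φ' : Module.Dual k V) (ρ w (ρ w⁻¹ v)) at h2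
    rwa [rho_rho_inv] at h2
  let τ : fx ρ (RGD.Sup X (RGD.Pos cs h)) →ₗ[k] fx (dualRep ρ) (RGD.Sup X (RGD.Pos cs h)) :=
    { toFun := τ₀
      map_add' := fun c d => uniq _ _ fun c' => by
        rw [hτ₀, map_add, LinearMap.add_apply, Submodule.coe_add, LinearMap.add_apply, hτ₀, hτ₀]
      map_smul' := fun a c => uniq _ _ fun c' => by
        rw [hτ₀, map_smul, LinearMap.smul_apply, RingHom.id_apply, Submodule.coe_smul, LinearMap.smul_apply, hτ₀] }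
  have hτ : ∀ c c' : fx ρ (RGD.Sup X (RGD.Pos cs h)), ((τ c : fx (dualRep ρ) (RGD.Sup X (RGD.Pos cs h))) : Module.Dual k V) (ρ w c') = β c c' := hτ₀
  have hτ0 : τ ≠ 0 := by
    intro h0
    apply hβ0
    ext c c'
    rw [← hτ c c', h0]
    rfl
  obtain ⟨θ, hθ⟩ := exists_iso R ρ (dualRep ρ) hirr (dual_irr ρ hirr) τ hτ0 (by
    intro t ht v v' hv'
    have h1 : (⟨dualRep ρ t (τ v), fun u hu => by
        have h2 : t⁻¹ * u * t ∈ RGD.Sup X (RGD.Pos cs h) := by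
          have h3 := R.T_le_normalizer_U (inv_mem ht)
          have h4 := (Subgroup.mem_normalizer_iff.1 h3 u).1 hu
          rwa [inv_inv] at h4
        have e : u * t = t * (t⁻¹ * u * t) := by group
        rw [← rho_mul, e, rho_mul, (τ v).2 _ h2]⟩ : fx (dualRep ρ) (RGD.Sup X (RGD.Pos cs h))) = τ v' := by
      refine uniq _ _ fun c' => ?_
      have h5 : w⁻¹ * t⁻¹ * w ∈ T := O.T_le _ (inv_mem ht)
      rw [hτ v' c', hβ t ht v v' c' ⟨ρ (w⁻¹ * t⁻¹ * w) c', hTC _ h5 _ c'.2⟩ hv' rfl, ← hτ]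
      change (τ v : Module.Dual k V) (ρ t⁻¹ (ρ w c')) = (τ v : Module.Dual k V) (ρ w (ρ (w⁻¹ * t⁻¹ * w) c'))
      rw [← rho_mul, ← rho_mul]
      congr 3
      group
    rw [← h1]) (fun i => by
      have h1 := Zi_dual R ρ O hirr i
      exact (hZ i).trans h1.symm)
  refine ⟨θ.toLinearMap, ?_, ?_, ?_⟩
  · intro g hg u v
    change θ (ρ g u) (ρ g v) = θ u v
    rw [hθ g hg, dualRep_apply, rho_inv_rho]
  · intro u hu
    have h1 : θ u = 0 := LinearMap.ext hu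
    exact (map_eq_zero_iff θ θ.injective).1 h1
  · intro v hv
    by_contra hv0
    obtain ⟨φ, hφ⟩ := (Module.forall_dual_apply_eq_zero_iff k v).not.2 hv0 |> not_forall.1
    obtain ⟨u, rfl⟩ := θ.surjective φ
    exact hφ (hv u)

/-- `T` trivial on `V^U` -/
theorem exists_form_of_triv (hZ : ∀ i, Zi cs h n X ρ i ↔ Zi cs h n X ρ (σ i))
    (htr : ∀ t ∈ T, ∀ c ∈ fx ρ (RGD.Sup X (RGD.Pos cs h)), ρ t c = c) :
    ∃ b : LinearMap.BilinForm k V, (∀ g ∈ GG cs h T X, ∀ u v, b (ρ g u) (ρ g v) = b u v) ∧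
      (∀ u, (∀ v, b u v = 0) → u = 0) ∧ ∀ v, (∀ u, b u v = 0) → v = 0 := by
  obtain ⟨c, hc, hc0⟩ := (Submodule.ne_bot_iff _).1 (simp_fx R ρ hirr).ne
  obtain ⟨ψ, hψ⟩ := not_forall.1 ((Module.forall_dual_apply_eq_zero_iff k
    (⟨c, hc⟩ : fx ρ (RGD.Sup X (RGD.Pos cs h)))).not.2 fun h0 => hc0 (congrArg Subtype.val h0))
  let β : fx ρ (RGD.Sup X (RGD.Pos cs h)) →ₗ[k] fx ρ (RGD.Sup X (RGD.Pos cs h)) →ₗ[k] k :=
    LinearMap.mk₂ k (fun a b => ψ a * ψ b) (fun a a' b => by rw [map_add, add_mul])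
      (fun s a b => by rw [map_smul, smul_eq_mul, smul_eq_mul, mul_assoc]) (fun a b b' => by rw [map_add, mul_add])
      (fun s a b => by rw [map_smul, smul_eq_mul, smul_eq_mul, mul_left_comm])
  refine exists_form R ρ O hirr hZ β ?_ ?_
  · intro h0
    have h1 : β ⟨c, hc⟩ ⟨c, hc⟩ = 0 := by rw [h0]; rfl
    exact hψ (mul_self_eq_zero.1 h1)
  · intro t ht c tc c' tc' h1 h2
    rw [htr t ht c c.2] at h1
    rw [htr _ (O.T_le _ (inv_mem ht)) c' c'.2] at h2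
    rw [Subtype.ext h1, Subtype.ext h2]

end

end Cfsg.Agent.Omega.FOne.Lift.Sd
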