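import Cfsg.Agent.Omega.CR.Fam

/-!
# Simple modules for groups with a root group datum, the isomorphism theorem (helper650)

`R : RGD cs h p T n X`, `ρ₁`, `ρ₂` simple representations in characteristic `p` (any field), `C₁`, `C₂` the fixed
vectors of `U`.

* `Ti_Ti` : `T_i T_i v = T_i (s_i v)`, `s_i` a sum of elements of `T` which does not depend on the representation;
* `pair_surj` : every functional on `V^U` is the restriction of a `U⁻`-fixed functional of `V`;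
* **`exists_iso`** : if `τ : C₁ → C₂` is a `T`-isomorphism and `T_i` kills `C₁` iff it kills `C₂`, for all `i`, then
  `τ` extends to an isomorphism `V₁ → V₂`.
-/

set_option autoImplicit false
set_option linter.unusedSectionVars false
set_option linter.style.haveILetI false

namespace Cfsg.Agent.Omega.FOne.Lift.Sd

open CoxeterSystem Cfsg.Agent.ChevalleyStructure.CoxeterGeom Cfsg.Agent.Tits.Roots Cfsg.Agent.Tits.Core
  Cfsg.Agent.Tits.Exchange Cfsg.Agent.Nodes.Reps Cfsg.Agent.Nodes.BNOf Cfsg.Agent.Nodes.StabComb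
  Cfsg.Agent.Nodes.Bruhat Cfsg.Agent.Nodes.OppDec Cfsg.Agent.Nodes.LeviDec Cfsg.Agent.KFacts.RgdOpp
  Cfsg.Agent.Omega.CR

variable {I W Y : Type*} [Fintype I] [DecidableEq I] [Group W] [Group Y] {M : CoxeterMatrix I}
  {cs : CoxeterSystem M W} {A : I → I → ℤ} {h : IsCartan M A} {p : ℕ} {T : Subgroup Y} {n : I → Y}
  {X : (I → ℤ) → Subgroup Y}

variable {k V V₁ V₂ : Type*} [Field k] [AddCommGroup V] [Module k V] [AddCommGroup V₁] [Module k V₁]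
  [AddCommGroup V₂] [Module k V₂]

/-! ### a single datum as a family -/

section single

variable (R : RGD cs h p T n X)
include R

theorem fam_single : Fam (κ := Unit) (fun _ => cs) (fun _ => h) p T (fun _ => n) (fun _ => X) (fun _ => ⊤) where
  rgd := fun _ => R
  X_le := fun _ _ _ => le_top
  n_mem := fun _ _ => Subgroup.mem_top _
  comm := fun l m hlm => absurd (Subsingleton.elim l m) hlm

omit R in
theorem Ut_single : Ut (κ := Unit) (fun _ => cs) (fun _ => h) (fun _ => X) = RGD.Sup X (RGD.Pos cs h) := by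
  unfold Ut
  exact iSup_const

omit R in
theorem UNt_single : UNt (κ := Unit) (fun _ => cs) (fun _ => h) (fun _ => X) = UN cs h X := by
  unfold UNt
  exact iSup_const

omit R in
theorem GGt_single : GGt (κ := Unit) (fun _ => cs) (fun _ => h) T (fun _ => X) = GG cs h T X := by
  unfold GGt
  rw [iSup_const]
  exact sup_eq_right.2 le_sup_left

variable [Finite Y] [Finite W] [Fact p.Prime] [CharP k p] [FiniteDimensional k V] (ρ : Y →* Module.End k V)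
  (hirr : ∀ L : Submodule k V, Ivt ρ (GG cs h T X) L → L = ⊥ ∨ L = ⊤)
include hirr

theorem simp_fx [Nontrivial V] : Simp ρ T (fx ρ (RGD.Sup X (RGD.Pos cs h))) := by
  have h1 := (fam_single R).simp ρ (by rw [GGt_single]; exact hirr)
  rwa [Ut_single] at h1

theorem gen_fx [Nontrivial V] : Sp ρ (UN cs h X) (fx ρ (RGD.Sup X (RGD.Pos cs h))) = ⊤ := by
  have hir : ∀ L : Submodule k V, Ivt ρ (GGt (κ := Unit) (fun _ => cs) (fun _ => h) T (fun _ => X)) L →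
      L = ⊥ ∨ L = ⊤ := by rw [GGt_single]; exact hirr
  have h1 := ((fam_single R).main ρ hir).gen hir
  rwa [Ut_single, UNt_single] at h1

/-- `V^U` meets every nonzero `T U`-invariant subspace -/
theorem fx_le_of {N : Submodule k V} (hN0 : N ≠ ⊥) (hU : Ivt ρ (RGD.Sup X (RGD.Pos cs h)) N) (hT : Ivt ρ T N) :
    fx ρ (RGD.Sup X (RGD.Pos cs h)) ≤ N := by
  have h1 := (fam_single R).fx_le ρ (by rw [GGt_single]; exact hirr) hN0 (by rw [Ut_single]; exact hU) hT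
  rwa [Ut_single] at h1

theorem exists_pair [Nontrivial V] {v : V} (hv : v ∈ fx ρ (RGD.Sup X (RGD.Pos cs h))) (hv0 : v ≠ 0) :
    ∃ φ ∈ fx (dualRep ρ) (UN cs h X), φ v ≠ 0 := by
  have hir : ∀ L : Submodule k V, Ivt ρ (GGt (κ := Unit) (fun _ => cs) (fun _ => h) T (fun _ => X)) L →
      L = ⊥ ∨ L = ⊤ := by rw [GGt_single]; exact hirr
  have h1 := ((fam_single R).eq_fx ρ hir ((fam_single R).main ρ hir)).2 v (by rw [Ut_single]; exact hv) hv0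
  rwa [UNt_single] at h1

/-- a `U⁻`-fixed functional which is zero on `V^U` is zero -/
theorem eq_zero_of_fx [Nontrivial V] {φ : Module.Dual k V} (hφ : φ ∈ fx (dualRep ρ) (UN cs h X))
    (h0 : ∀ v ∈ fx ρ (RGD.Sup X (RGD.Pos cs h)), φ v = 0) : φ = 0 :=
  eq_zero_of_Sp ρ (gen_fx R ρ hirr) hφ h0

/-- **every functional on `V^U` is the restriction of a `U⁻`-fixed functional** -/
theorem pair_surj [Nontrivial V] (ψ : fx ρ (RGD.Sup X (RGD.Pos cs h)) →ₗ[k] k) :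
    ∃ φ ∈ fx (dualRep ρ) (UN cs h X), ∀ v : fx ρ (RGD.Sup X (RGD.Pos cs h)), φ v = ψ v := by
  let Φ : fx (dualRep ρ) (UN cs h X) →ₗ[k] Module.Dual k (fx ρ (RGD.Sup X (RGD.Pos cs h))) :=
    { toFun := fun φ => φ.1.comp (fx ρ (RGD.Sup X (RGD.Pos cs h))).subtype
      map_add' := fun _ _ => rfl
      map_smul' := fun _ _ => rfl }
  have hΦ : Function.Injective Φ := by
    rw [injective_iff_map_eq_zero]
    intro φ hφ
    apply Subtype.ext
    refine eq_zero_of_fx R ρ hirr φ.2 fun v hv => ?_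
    exact congrArg (fun ψ : Module.Dual k (fx ρ (RGD.Sup X (RGD.Pos cs h))) => ψ ⟨v, hv⟩) hφ
  let Ψ : fx ρ (RGD.Sup X (RGD.Pos cs h)) →ₗ[k] Module.Dual k (fx (dualRep ρ) (UN cs h X)) :=
    { toFun := fun v =>
        { toFun := fun φ => φ.1 v.1
          map_add' := fun _ _ => rfl
          map_smul' := fun _ _ => rfl }
      map_add' := fun v w => by
        ext φ
        exact map_add φ.1 v.1 w.1
      map_smul' := fun c v => by
        ext φ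
        exact map_smul φ.1 c v.1 }
  have hΨ : Function.Injective Ψ := by
    rw [injective_iff_map_eq_zero]
    intro v hv
    by_contra hv0
    obtain ⟨φ, hφ, hφ0⟩ := exists_pair R ρ hirr v.2 (fun h0 => hv0 (Subtype.ext h0))
    exact hφ0 (congrArg (fun ψ : Module.Dual k (fx (dualRep ρ) (UN cs h X)) => ψ ⟨φ, hφ⟩) hv)
  have e1 := LinearMap.finrank_le_finrank_of_injective hΨ
  have e2 := (Subspace.dual_finrank_eq (K := k) (V := fx (dualRep ρ) (UN cs h X)))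
  have e3 := (Subspace.dual_finrank_eq (K := k) (V := fx ρ (RGD.Sup X (RGD.Pos cs h))))
  have e4 := LinearMap.finrank_le_finrank_of_injective hΦ
  have hs : Function.Surjective Φ := by
    rw [← LinearMap.range_eq_top]
    apply Submodule.eq_top_of_finrank_eq
    rw [LinearMap.finrank_range_of_inj hΦ]
    omega
  obtain ⟨φ, hφ⟩ := hs ψ
  exact ⟨φ.1, φ.2, fun v => DFunLike.congr_fun hφ v⟩

end single

/-! ### the operators `T_i` -/

section Ti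

variable (R : RGD cs h p T n X)
include R

theorem exists_tt (i : I) : ∃ t : Y → Y, (∀ x, t x ∈ T) ∧ ∀ x ∈ X (sr i), x ≠ 1 →
    ∃ a ∈ X (sr i), ∃ b ∈ X (sr i), n i * x * n i = a * n i * t x * b := by
  have key : ∀ x : Y, ∃ t ∈ T, x ∈ X (sr i) → x ≠ 1 →
      ∃ a ∈ X (sr i), ∃ b ∈ X (sr i), n i * x * n i = a * n i * t * b := by
    intro x
    by_cases hx : x ∈ X (sr i) ∧ x ≠ 1
    · obtain ⟨a, ha, t, ht, b, hb, e⟩ := n_mul_n R i hx.1 hx.2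
      exact ⟨t, ht, fun _ _ => ⟨a, ha, b, hb, e⟩⟩
    · exact ⟨1, one_mem _, fun h1 h2 => absurd ⟨h1, h2⟩ hx⟩
  choose t ht h1 using key
  exact ⟨t, ht, fun x hx hx1 => h1 x hx hx1⟩

variable [Finite Y] [Finite W] [Fact p.Prime] [CharP k p]

/-- `s_i` -/
noncomputable def si (X : (I → ℤ) → Subgroup Y) (ρ : Y →* Module.End k V) (i : I) (t : Y → Y) (v : V) : V := by
  classical
  letI := Fintype.ofFinite (X (sr i))
  exact ∑ x ∈ Finset.univ.erase (1 : X (sr i)), ρ (t x) v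

omit R [Finite W] [Fact p.Prime] [CharP k p] in
theorem si_add (ρ : Y →* Module.End k V) (i : I) (t : Y → Y) (v w : V) :
    si X ρ i t (v + w) = si X ρ i t v + si X ρ i t w := by
  unfold si
  rw [← Finset.sum_add_distrib]
  exact Finset.sum_congr rfl fun x _ => map_add _ _ _

omit R [Finite W] [Fact p.Prime] [CharP k p] in
theorem si_mem {ρ : Y →* Module.End k V} {i : I} {t : Y → Y} (ht : ∀ x, t x ∈ T) {N : Submodule k V}
    (hN : Ivt ρ T N) {v : V} (hv : v ∈ N) : si X ρ i t v ∈ N := by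
  unfold si
  exact N.sum_mem fun x _ => hN _ (ht x) v hv

theorem Ti_Ti (ρ : Y →* Module.End k V) {i : I} {t : Y → Y}
    (htt : ∀ x ∈ X (sr i), x ≠ 1 → ∃ a ∈ X (sr i), ∃ b ∈ X (sr i), n i * x * n i = a * n i * t x * b)
    (hTU : Ivt ρ T (fx ρ (RGD.Sup X (RGD.Pos cs h)))) {v : V} (hv : v ∈ fx ρ (RGD.Sup X (RGD.Pos cs h))) :
    Ti n X ρ i (Ti n X ρ i v) = Ti n X ρ i (si X ρ i t v) := by
  classical
  letI := Fintype.ofFinite (X (sr i))
  have key : ∀ x : X (sr i), x ≠ 1 → sg ρ (X (sr i)) (ρ (n i) (ρ (x : Y) (ρ (n i) v))) = Ti n X ρ i (ρ (t x) v) := by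
    intro x hx1
    obtain ⟨a, ha, b, hb, e⟩ := htt x x.2 (fun h => hx1 (Subtype.ext h))
    rw [← rho_mul, ← rho_mul, e, rho_mul, X_fix R ρ hv i hb, rho_mul, rho_mul, sg_rho_of_mem ρ _ ha, Ti_apply]
  have h0 : sg ρ (X (sr i)) (ρ (n i) (ρ ((1 : X (sr i)) : Y) (ρ (n i) v))) = 0 := by
    rw [Subgroup.coe_one, rho_one, ← rho_mul ρ (n i)]
    exact sg_fixed ρ (p_dvd R i) fun a ha => X_fix R ρ (hTU _ (n_sq R i) v hv) i ha
  have h1 : Ti n X ρ i (Ti n X ρ i v) =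
      ∑ x : X (sr i), sg ρ (X (sr i)) (ρ (n i) (ρ (x : Y) (ρ (n i) v))) := by
    rw [Ti_apply ρ i (Ti n X ρ i v), Ti_apply ρ i v, sg_def ρ (X (sr i)) (ρ (n i) v), map_sum, map_sum]
  rw [h1, ← Finset.add_sum_erase _ _ (Finset.mem_univ (1 : X (sr i))), h0, zero_add]
  have h2 : si X ρ i t v = ∑ x ∈ Finset.univ.erase (1 : X (sr i)), ρ (t x) v := rfl
  rw [h2, map_sum]
  exact Finset.sum_congr rfl fun x hx => key x (Finset.ne_of_mem_erase hx)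

/-- on a simple `T_i`-stable subspace `T_i` is `0` or `s_i` -/
theorem Ti_eq_si (ρ : Y →* Module.End k V) {i : I} {t : Y → Y} (ht : ∀ x, t x ∈ T)
    (htt : ∀ x ∈ X (sr i), x ≠ 1 → ∃ a ∈ X (sr i), ∃ b ∈ X (sr i), n i * x * n i = a * n i * t x * b)
    (hs : Simp ρ T (fx ρ (RGD.Sup X (RGD.Pos cs h)))) (h0 : ¬ ∀ v ∈ fx ρ (RGD.Sup X (RGD.Pos cs h)), Ti n X ρ i v = 0)
    {v : V} (hv : v ∈ fx ρ (RGD.Sup X (RGD.Pos cs h))) : Ti n X ρ i v = si X ρ i t v := by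
  set C := fx ρ (RGD.Sup X (RGD.Pos cs h)) with hC
  -- the kernel
  have h1 : Ivt ρ T (C ⊓ LinearMap.ker (Ti n X ρ i)) := by
    rintro s hs' v ⟨hv, hv'⟩
    refine ⟨hs.inv s hs' v hv, ?_⟩
    rw [SetLike.mem_coe, LinearMap.mem_ker] at hv' ⊢
    rw [Ti_rho R ρ i hs', hv', map_zero]
  have h2 : C ⊓ LinearMap.ker (Ti n X ρ i) = ⊥ := by
    refine (hs.simple _ inf_le_left h1).resolve_right fun h3 => h0 fun v hv => ?_
    rw [← h3] at hv
    exact hv.2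
  have h3 := Ti_Ti R ρ htt hs.inv hv
  have h4 : Ti n X ρ i v - si X ρ i t v ∈ C ⊓ LinearMap.ker (Ti n X ρ i) := by
    refine ⟨Submodule.sub_mem _ (Ti_fix R ρ hv i) (si_mem ht hs.inv hv), ?_⟩
    rw [SetLike.mem_coe, LinearMap.mem_ker, map_sub, h3, sub_self]
  rw [h2, Submodule.mem_bot, sub_eq_zero] at h4
  exact h4

end Ti

/-! ### products -/

/-- the product representation -/
def prodRep (ρ₁ : Y →* Module.End k V₁) (ρ₂ : Y →* Module.End k V₂) : Y →* Module.End k (V₁ × V₂) where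
  toFun g := (ρ₁ g).prodMap (ρ₂ g)
  map_one' := by
    rw [map_one, map_one]; rfl
  map_mul' a b := by
    rw [map_mul, map_mul]; rfl

theorem prodRep_apply (ρ₁ : Y →* Module.End k V₁) (ρ₂ : Y →* Module.End k V₂) (g : Y) (v : V₁ × V₂) :
    prodRep ρ₁ ρ₂ g v = (ρ₁ g v.1, ρ₂ g v.2) := rfl

theorem sg_prod [Finite Y] (ρ₁ : Y →* Module.End k V₁) (ρ₂ : Y →* Module.End k V₂) (B : Subgroup Y) (v : V₁ × V₂) :
    sg (prodRep ρ₁ ρ₂) B v = (sg ρ₁ B v.1, sg ρ₂ B v.2) := by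
  classical
  letI := Fintype.ofFinite B
  rw [sg_def, sg_def, sg_def]
  exact Prod.ext (by rw [Prod.fst_sum]; rfl) (by rw [Prod.snd_sum]; rfl)

theorem Ti_prod [Finite Y] (ρ₁ : Y →* Module.End k V₁) (ρ₂ : Y →* Module.End k V₂) (i : I) (v : V₁ × V₂) :
    Ti n X (prodRep ρ₁ ρ₂) i v = (Ti n X ρ₁ i v.1, Ti n X ρ₂ i v.2) := by
  rw [Ti_apply, Ti_apply, Ti_apply, prodRep_apply, sg_prod]

/-! ### the isomorphism -/

section iso

variable (R : RGD cs h p T n X) [Finite Y] [Finite W] [Fact p.Prime] [CharP k p] [FiniteDimensional k V₁]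
  [FiniteDimensional k V₂] [Nontrivial V₁] [Nontrivial V₂] (ρ₁ : Y →* Module.End k V₁) (ρ₂ : Y →* Module.End k V₂)
  (hirr₁ : ∀ L : Submodule k V₁, Ivt ρ₁ (GG cs h T X) L → L = ⊥ ∨ L = ⊤)
  (hirr₂ : ∀ L : Submodule k V₂, Ivt ρ₂ (GG cs h T X) L → L = ⊥ ∨ L = ⊤)
  (τ : fx ρ₁ (RGD.Sup X (RGD.Pos cs h)) →ₗ[k] fx ρ₂ (RGD.Sup X (RGD.Pos cs h)))
  (hτ0 : τ ≠ 0)
  (hτ : ∀ t ∈ T, ∀ (v w : fx ρ₁ (RGD.Sup X (RGD.Pos cs h))), (w : V₁) = ρ₁ t v → (τ w : V₂) = ρ₂ t (τ v))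
  (hz : ∀ i, (∀ v ∈ fx ρ₁ (RGD.Sup X (RGD.Pos cs h)), Ti n X ρ₁ i v = 0) ↔
    ∀ v ∈ fx ρ₂ (RGD.Sup X (RGD.Pos cs h)), Ti n X ρ₂ i v = 0)

/-- the graph of `τ` -/
def gr (τ : fx ρ₁ (RGD.Sup X (RGD.Pos cs h)) →ₗ[k] fx ρ₂ (RGD.Sup X (RGD.Pos cs h))) : Submodule k (V₁ × V₂) :=
  LinearMap.range ((fx ρ₁ (RGD.Sup X (RGD.Pos cs h))).subtype.prod
    ((fx ρ₂ (RGD.Sup X (RGD.Pos cs h))).subtype.comp τ))

omit [Finite Y] [Finite W] [Fact p.Prime] [CharP k p] [FiniteDimensional k V₁] [FiniteDimensional k V₂]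
  [Nontrivial V₁] [Nontrivial V₂] in
theorem mem_gr {v : V₁ × V₂} : v ∈ gr ρ₁ ρ₂ τ ↔ ∃ c : fx ρ₁ (RGD.Sup X (RGD.Pos cs h)), v = ((c : V₁), (τ c : V₂)) := by
  constructor
  · rintro ⟨c, rfl⟩
    exact ⟨c, rfl⟩
  · rintro ⟨c, rfl⟩
    exact ⟨c, rfl⟩

include R hirr₁ hirr₂ hτ

theorem gr_simp : Simp (prodRep ρ₁ ρ₂) T (gr ρ₁ ρ₂ τ) where
  ne := by
    intro h0
    apply (simp_fx R ρ₁ hirr₁).ne
    rw [eq_bot_iff]
    intro v hv
    have h1 : ((v, (τ ⟨v, hv⟩ : V₂)) : V₁ × V₂) ∈ gr ρ₁ ρ₂ τ := (mem_gr ρ₁ ρ₂ τ).2 ⟨⟨v, hv⟩, rfl⟩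
    rw [h0, Submodule.mem_bot] at h1
    exact (Submodule.mem_bot k).2 (congrArg Prod.fst h1)
  inv := by
    intro t ht v hv
    obtain ⟨c, rfl⟩ := (mem_gr ρ₁ ρ₂ τ).1 hv
    refine (mem_gr ρ₁ ρ₂ τ).2 ⟨⟨ρ₁ t c, (simp_fx R ρ₁ hirr₁).inv t ht c c.2⟩, ?_⟩
    exact Prod.ext rfl (hτ t ht c ⟨ρ₁ t c, (simp_fx R ρ₁ hirr₁).inv t ht c c.2⟩ rfl).symm
  simple := by
    intro L hL hLi
    have h1 : Ivt ρ₁ T (L.map (LinearMap.fst k V₁ V₂)) := by
      rintro t ht _ ⟨v, hv, rfl⟩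
      exact ⟨_, hLi t ht v hv, rfl⟩
    have h2 : L.map (LinearMap.fst k V₁ V₂) ≤ fx ρ₁ (RGD.Sup X (RGD.Pos cs h)) := by
      rintro _ ⟨v, hv, rfl⟩
      obtain ⟨c, rfl⟩ := (mem_gr ρ₁ ρ₂ τ).1 (hL hv)
      exact c.2
    rcases (simp_fx R ρ₁ hirr₁).simple _ h2 h1 with h3 | h3
    · left
      rw [eq_bot_iff]
      intro v hv
      obtain ⟨c, rfl⟩ := (mem_gr ρ₁ ρ₂ τ).1 (hL hv)
      have h4 : (c : V₁) ∈ L.map (LinearMap.fst k V₁ V₂) := ⟨_, hv, rfl⟩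
      rw [h3, Submodule.mem_bot] at h4
      have h5 : c = 0 := Subtype.ext h4
      rw [h5, map_zero]
      exact Submodule.zero_mem _
    · right
      refine le_antisymm hL ?_
      intro v hv
      obtain ⟨c, rfl⟩ := (mem_gr ρ₁ ρ₂ τ).1 hv
      have h4 : (c : V₁) ∈ L.map (LinearMap.fst k V₁ V₂) := by rw [h3]; exact c.2
      obtain ⟨w, hw, e⟩ := h4
      obtain ⟨c', rfl⟩ := (mem_gr ρ₁ ρ₂ τ).1 (hL hw)
      have h5 : c' = c := Subtype.ext e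
      rw [← h5]
      exact hw

theorem gr_fix : gr ρ₁ ρ₂ τ ≤ fx (prodRep ρ₁ ρ₂) (RGD.Sup X (RGD.Pos cs h)) := by
  intro v hv
  obtain ⟨c, rfl⟩ := (mem_gr ρ₁ ρ₂ τ).1 hv
  intro u hu
  rw [prodRep_apply]
  exact Prod.ext (c.2 u hu) ((τ c).2 u hu)

include hz in
theorem gr_Ti (i : I) {v : V₁ × V₂} (hv : v ∈ gr ρ₁ ρ₂ τ) : Ti n X (prodRep ρ₁ ρ₂) i v ∈ gr ρ₁ ρ₂ τ := by
  classical
  obtain ⟨c, rfl⟩ := (mem_gr ρ₁ ρ₂ τ).1 hv
  rw [Ti_prod]
  by_cases h0 : ∀ v ∈ fx ρ₁ (RGD.Sup X (RGD.Pos cs h)), Ti n X ρ₁ i v = 0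
  · have h1 := h0 c c.2
    have h2 := (hz i).1 h0 (τ c) (τ c).2
    dsimp only
    rw [h1, h2]
    exact Submodule.zero_mem _
  · have h0' : ¬ ∀ v ∈ fx ρ₂ (RGD.Sup X (RGD.Pos cs h)), Ti n X ρ₂ i v = 0 := fun h1 => h0 ((hz i).2 h1)
    obtain ⟨t, ht, htt⟩ := exists_tt R i
    dsimp only
    rw [Ti_eq_si R ρ₁ ht htt (simp_fx R ρ₁ hirr₁) h0 c.2, Ti_eq_si R ρ₂ ht htt (simp_fx R ρ₂ hirr₂) h0' (τ c).2]
    letI := Fintype.ofFinite (X (sr i))
    have e1 : si X ρ₁ i t c = ∑ x ∈ Finset.univ.erase (1 : X (sr i)), ρ₁ (t x) c := rfl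
    have e2 : si X ρ₂ i t (τ c : V₂) = ∑ x ∈ Finset.univ.erase (1 : X (sr i)), ρ₂ (t x) (τ c) := rfl
    have e3 : ((∑ x ∈ Finset.univ.erase (1 : X (sr i)), ρ₁ (t x) c,
        ∑ x ∈ Finset.univ.erase (1 : X (sr i)), ρ₂ (t x) (τ c)) : V₁ × V₂) =
        ∑ x ∈ Finset.univ.erase (1 : X (sr i)), prodRep ρ₁ ρ₂ (t x) ((c : V₁), (τ c : V₂)) :=
      Prod.ext (by rw [Prod.fst_sum]; rfl) (by rw [Prod.snd_sum]; rfl)
    rw [e1, e2, e3]
    exact Submodule.sum_mem _ fun x _ => (gr_simp R ρ₁ ρ₂ hirr₁ hirr₂ τ hτ).inv _ (ht x) _ hv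

/-- the module generated by the graph -/
def gN (τ : fx ρ₁ (RGD.Sup X (RGD.Pos cs h)) →ₗ[k] fx ρ₂ (RGD.Sup X (RGD.Pos cs h))) : Submodule k (V₁ × V₂) :=
  Sp (prodRep ρ₁ ρ₂) (UN cs h X) (gr ρ₁ ρ₂ τ)

include hz in
theorem gN_inv : GG cs h T X ≤ stS (prodRep ρ₁ ρ₂) (gN ρ₁ ρ₂ τ) := by
  have hs := gr_simp R ρ₁ ρ₂ hirr₁ hirr₂ τ hτ
  have hU := gr_fix R ρ₁ ρ₂ hirr₁ hirr₂ τ hτ
  refine stable R (prodRep ρ₁ ρ₂) hs.inv hU (fun i v hv => n_mem R (prodRep ρ₁ ρ₂) hs hU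
    (fun v hv => gr_Ti R ρ₁ ρ₂ hirr₁ hirr₂ τ hτ hz i hv) hv) (C := ⊥) (fun i c hc => ?_) bot_le le_rfl
    (fun b hb => ⟨1, one_mem _, b, hb, (one_mul b).symm⟩) fun t ht b hb => T_norm_UN R ht hb
  rw [Subgroup.mem_bot.1 hc, mul_one, one_mul]

include hτ0 in
/-- it is proper -/
theorem gN_ne : gN ρ₁ ρ₂ τ ≠ ⊤ := by
  intro h0
  obtain ⟨c, hc⟩ : ∃ c, τ c ≠ 0 := by
    by_contra hcon
    push Not at hcon
    exact hτ0 (LinearMap.ext hcon)
  obtain ⟨φ₂, hφ₂, hne⟩ := exists_pair R ρ₂ hirr₂ (τ c).2 (fun h1 => hc (Subtype.ext h1))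
  obtain ⟨φ₁, hφ₁, h1⟩ := pair_surj R ρ₁ hirr₁ (φ₂.comp ((fx ρ₂ (RGD.Sup X (RGD.Pos cs h))).subtype.comp τ))
  -- `φ₁ - φ₂` vanishes on the module
  have key : ∀ v ∈ gN ρ₁ ρ₂ τ, φ₁ v.1 = φ₂ v.2 := by
    intro v hv
    unfold gN Sp at hv
    induction hv using Submodule.span_induction with
    | mem x hx =>
      obtain ⟨b, hb, w, hw, rfl⟩ := hx
      obtain ⟨c, rfl⟩ := (mem_gr ρ₁ ρ₂ τ).1 hw
      rw [prodRep_apply]
      change φ₁ (ρ₁ b c) = φ₂ (ρ₂ b (τ c))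
      rw [(mem_fx_dual ρ₁).1 hφ₁ b hb, (mem_fx_dual ρ₂).1 hφ₂ b hb, h1]
      rfl
    | zero => rw [Prod.fst_zero, Prod.snd_zero, map_zero, map_zero]
    | add x y _ _ hx hy => rw [Prod.fst_add, Prod.snd_add, map_add, map_add, hx, hy]
    | smul a x _ hx => rw [Prod.smul_fst, Prod.smul_snd, map_smul, map_smul, hx]
  have h2 := key (0, (τ c : V₂)) (by rw [h0]; trivial)
  rw [map_zero] at h2
  exact hne h2.symm

include hτ0 hz

/-- **The isomorphism.** -/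
theorem exists_iso : ∃ θ : V₁ ≃ₗ[k] V₂, ∀ g ∈ GG cs h T X, ∀ v, θ (ρ₁ g v) = ρ₂ g (θ v) := by
  have hinv := gN_inv R ρ₁ ρ₂ hirr₁ hirr₂ τ hτ hz
  have hne := gN_ne R ρ₁ ρ₂ hirr₁ hirr₂ τ hτ0 hτ
  have hgr : gr ρ₁ ρ₂ τ ≤ gN ρ₁ ρ₂ τ := le_Sp _
  obtain ⟨c, hc⟩ : ∃ c, τ c ≠ 0 := by
    by_contra hcon
    push Not at hcon
    exact hτ0 (LinearMap.ext hcon)
  have hc0 : (c : V₁) ≠ 0 := by
    intro h1
    have : c = 0 := Subtype.ext h1
    rw [this, map_zero] at hc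
    exact hc rfl
  have hc0' : (τ c : V₂) ≠ 0 := fun h1 => hc (Subtype.ext h1)
  set N := gN ρ₁ ρ₂ τ with hN
  -- the two kernels
  have i1 : Ivt ρ₁ (GG cs h T X) (N.comap (LinearMap.inl k V₁ V₂)) := by
    intro g hg v hv
    have h1 := (hinv hg ((v, 0) : V₁ × V₂)).1 hv
    rw [prodRep_apply, map_zero] at h1
    exact h1
  have i2 : Ivt ρ₂ (GG cs h T X) (N.comap (LinearMap.inr k V₁ V₂)) := by
    intro g hg v hv
    have h1 := (hinv hg ((0, v) : V₁ × V₂)).1 hv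
    rw [prodRep_apply, map_zero] at h1
    exact h1
  have hcm : (((c : V₁), (τ c : V₂)) : V₁ × V₂) ∈ N := hgr ((mem_gr ρ₁ ρ₂ τ).2 ⟨c, rfl⟩)
  have top_of : (N.comap (LinearMap.inl k V₁ V₂)) = ⊤ → (N.comap (LinearMap.inr k V₁ V₂)) = ⊤ → False := by
    intro h1 h2
    apply hne
    rw [eq_top_iff]
    rintro ⟨a, b⟩ -
    have h3 : ((a, 0) : V₁ × V₂) ∈ N := by
      have : a ∈ N.comap (LinearMap.inl k V₁ V₂) := by rw [h1]; trivial
      exact this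
    have h4 : ((0, b) : V₁ × V₂) ∈ N := by
      have : b ∈ N.comap (LinearMap.inr k V₁ V₂) := by rw [h2]; trivial
      exact this
    have h5 := N.add_mem h3 h4
    rwa [Prod.mk_add_mk, add_zero, zero_add] at h5
  have k1 : N.comap (LinearMap.inl k V₁ V₂) = ⊥ := by
    refine (hirr₁ _ i1).resolve_right fun h1 => ?_
    refine top_of h1 ((hirr₂ _ i2).resolve_left fun h2 => ?_)
    have h3 : (((c : V₁), 0) : V₁ × V₂) ∈ N := by
      have : (c : V₁) ∈ N.comap (LinearMap.inl k V₁ V₂) := by rw [h1]; trivial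
      exact this
    have h4 := N.sub_mem hcm h3
    rw [Prod.mk_sub_mk, sub_self, sub_zero] at h4
    have h5 : (τ c : V₂) ∈ N.comap (LinearMap.inr k V₁ V₂) := h4
    rw [h2, Submodule.mem_bot] at h5
    exact hc0' h5
  have k2 : N.comap (LinearMap.inr k V₁ V₂) = ⊥ := by
    refine (hirr₂ _ i2).resolve_right fun h1 => ?_
    have h3 : ((0, (τ c : V₂)) : V₁ × V₂) ∈ N := by
      have : (τ c : V₂) ∈ N.comap (LinearMap.inr k V₁ V₂) := by rw [h1]; trivial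
      exact this
    have h4 := N.sub_mem hcm h3
    rw [Prod.mk_sub_mk, sub_self, sub_zero] at h4
    have h5 : (c : V₁) ∈ N.comap (LinearMap.inl k V₁ V₂) := h4
    rw [k1, Submodule.mem_bot] at h5
    exact hc0 h5
  -- the projections
  let p₁ : N →ₗ[k] V₁ := (LinearMap.fst k V₁ V₂).comp N.subtype
  let p₂ : N →ₗ[k] V₂ := (LinearMap.snd k V₁ V₂).comp N.subtype
  have b1 : Function.Bijective p₁ := by
    constructor
    · rw [injective_iff_map_eq_zero]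
      rintro ⟨⟨a, b⟩, hab⟩ h1
      change a = 0 at h1
      subst h1
      have h2 : b ∈ N.comap (LinearMap.inr k V₁ V₂) := hab
      rw [k2, Submodule.mem_bot] at h2
      subst h2
      rfl
    · rw [← LinearMap.range_eq_top]
      refine (hirr₁ _ ?_).resolve_left fun h1 => ?_
      · rintro g hg _ ⟨v, rfl⟩
        exact ⟨⟨prodRep ρ₁ ρ₂ g v, (hinv hg _).1 v.2⟩, rfl⟩
      · have h2 : p₁ ⟨_, hcm⟩ ∈ LinearMap.range p₁ := ⟨_, rfl⟩
        rw [h1, Submodule.mem_bot] at h2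
        exact hc0 h2
  have b2 : Function.Bijective p₂ := by
    constructor
    · rw [injective_iff_map_eq_zero]
      rintro ⟨⟨a, b⟩, hab⟩ h1
      change b = 0 at h1
      subst h1
      have h2 : a ∈ N.comap (LinearMap.inl k V₁ V₂) := hab
      rw [k1, Submodule.mem_bot] at h2
      subst h2
      rfl
    · rw [← LinearMap.range_eq_top]
      refine (hirr₂ _ ?_).resolve_left fun h1 => ?_
      · rintro g hg _ ⟨v, rfl⟩
        exact ⟨⟨prodRep ρ₁ ρ₂ g v, (hinv hg _).1 v.2⟩, rfl⟩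
      · have h2 : p₂ ⟨_, hcm⟩ ∈ LinearMap.range p₂ := ⟨_, rfl⟩
        rw [h1, Submodule.mem_bot] at h2
        exact hc0' h2
  let q₁ := LinearEquiv.ofBijective p₁ b1
  let q₂ := LinearEquiv.ofBijective p₂ b2
  refine ⟨q₁.symm.trans q₂, fun g hg v => ?_⟩
  obtain ⟨x, rfl⟩ := q₁.surjective v
  have h1 : ρ₁ g (q₁ x) = q₁ ⟨prodRep ρ₁ ρ₂ g x, (hinv hg _).1 x.2⟩ := rfl
  rw [h1, LinearEquiv.trans_apply, LinearEquiv.trans_apply, LinearEquiv.symm_apply_apply,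
    LinearEquiv.symm_apply_apply]
  rfl

end iso

end Cfsg.Agent.Omega.FOne.Lift.Sd
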